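import Cfsg.Agent.Lib.Transfer.Focal
import Mathlib.GroupTheory.Transfer

/-!
# A transfer kernel: a subgroup `B` of a Sylow subgroup `U` with `u⁻¹ u^a ∈ B` whenever `u, u^a ∈ U`
-/

set_option autoImplicit false
set_option linter.style.haveILetI false

namespace Cfsg.Agent.Fusion.CentralLift

open Subgroup MulAction

theorem exists_kernel_of_fused {A : Type*} [Group A] [Finite A] {p : ℕ} [Fact p.Prime] (U : Sylow p A)
    (B : Subgroup A) (hBU : B ≤ (U : Subgroup A))
    (fuse : ∀ u ∈ (U : Subgroup A), ∀ a : A, a * u * a⁻¹ ∈ (U : Subgroup A) → u⁻¹ * (a * u * a⁻¹) ∈ B) :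
    ∃ K : Subgroup A, K.Normal ∧ (∀ a : A, Nat.Coprime (orderOf a) p → a ∈ K) ∧
      (U : Subgroup A) ⊓ K = B := by
  classical
  haveI hn : (B.subgroupOf (U : Subgroup A)).Normal := by
    refine ⟨fun b hb u => ?_⟩
    have hb' : (b : A) ∈ B := hb
    have h1 := fuse b b.2 u ((U : Subgroup A).mul_mem ((U : Subgroup A).mul_mem u.2 b.2) (inv_mem u.2))
    have h2 := B.mul_mem hb' h1
    rw [mul_inv_cancel_left] at h2
    exact h2
  letI : CommGroup ((U : Subgroup A) ⧸ B.subgroupOf (U : Subgroup A)) :=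
    { QuotientGroup.Quotient.group (B.subgroupOf (U : Subgroup A)) with
      mul_comm := by
        intro x y
        induction x using QuotientGroup.induction_on with
        | _ a =>
        induction y using QuotientGroup.induction_on with
        | _ b =>
        refine QuotientGroup.eq.2 ?_
        show ((((a * b)⁻¹ * (b * a)) : (U : Subgroup A)) : A) ∈ B
        have h1 := fuse a a.2 b ((U : Subgroup A).mul_mem ((U : Subgroup A).mul_mem b.2 a.2) (inv_mem b.2))
        have h2 : (((⟨_, h1⟩ : B) : A)) ∈ B := h1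
        have h3 := hn.conj_mem ⟨(a : A)⁻¹ * ((b : A) * a * (b : A)⁻¹),
          (U : Subgroup A).mul_mem (inv_mem a.2)
            ((U : Subgroup A).mul_mem ((U : Subgroup A).mul_mem b.2 a.2) (inv_mem b.2))⟩ h1 b⁻¹
        have h4 : ((b : A))⁻¹ * ((a : A)⁻¹ * ((b : A) * a * (b : A)⁻¹)) * (b : A)⁻¹⁻¹ ∈ B := h3
        push_cast
        convert h4 using 1
        group }
  let ϕ := QuotientGroup.mk' (B.subgroupOf (U : Subgroup A))
  let v := MonoidHom.transfer ϕ
  have hC : IsPGroup p ((U : Subgroup A) ⧸ B.subgroupOf (U : Subgroup A)) := U.2.to_quotient _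
  have hval : ∀ (u : A) (hu : u ∈ (U : Subgroup A)), v u = ϕ ⟨u, hu⟩ ^ (U : Subgroup A).index := by
    intro u hu
    show MonoidHom.transfer ϕ u = _
    letI : Fintype (A ⧸ (U : Subgroup A)) := Fintype.ofFinite _
    letI : Fintype (Quotient (orbitRel (zpowers u) (A ⧸ (U : Subgroup A)))) := Fintype.ofFinite _
    rw [MonoidHom.transfer_eq_prod_quotient_orbitRel_zpowers_quot,
      index_eq_sum_minimalPeriod (U : Subgroup A) u, ← Finset.prod_pow_eq_pow_sum]
    refine Finset.prod_congr rfl fun q _ => ?_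
    rw [← map_pow]
    symm
    refine QuotientGroup.eq.2 ?_
    rw [Subgroup.mem_subgroupOf]
    push_cast
    have hmem := QuotientGroup.out_conj_pow_minimalPeriod_mem (U : Subgroup A) u q.out
    have h1 := fuse _ (pow_mem hu (Function.minimalPeriod (u • ·) q.out)) (q.out.out)⁻¹
      (by rw [inv_inv]; exact hmem)
    rw [inv_inv] at h1
    exact h1
  refine ⟨v.ker, inferInstance, fun a ha => ?_, ?_⟩
  · rw [MonoidHom.mem_ker, ← orderOf_eq_one_iff]
    obtain ⟨k, hk⟩ := IsPGroup.iff_orderOf.1 hC (v a)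
    have h1 : Nat.Coprime (orderOf (v a)) p := ha.coprime_dvd_left (orderOf_map_dvd v a)
    rw [hk] at h1 ⊢
    rcases Nat.eq_zero_or_pos k with rfl | hk0
    · rw [pow_zero]
    · rw [Nat.coprime_pow_left_iff hk0, Nat.coprime_self] at h1
      exact absurd h1 (Fact.out : p.Prime).ne_one
  · ext x
    constructor
    · rintro ⟨hxU, hxv⟩
      have hxv' : v x = 1 := hxv
      rw [hval x hxU] at hxv'
      obtain ⟨k, hk⟩ := IsPGroup.iff_orderOf.1 hC (ϕ ⟨x, hxU⟩)
      have h1 : orderOf (ϕ ⟨x, hxU⟩) ∣ (U : Subgroup A).index := orderOf_dvd_of_pow_eq_one hxv'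
      rw [hk] at h1
      rcases Nat.eq_zero_or_pos k with rfl | hk0
      · rw [pow_zero, orderOf_eq_one_iff] at hk
        exact (QuotientGroup.eq_one_iff (N := B.subgroupOf (U : Subgroup A)) _).1 hk
      · exact absurd ((dvd_pow_self p hk0.ne').trans h1) U.not_dvd_index
    · intro hx
      refine ⟨hBU hx, ?_⟩
      show v x = 1
      rw [hval x (hBU hx), show ϕ ⟨x, hBU hx⟩ = 1 from (QuotientGroup.eq_one_iff (N := B.subgroupOf (U : Subgroup A)) _).2 hx, one_pow]

end Cfsg.Agent.Fusion.CentralLift
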