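import Cfsg.Agent.Lib.Fusion.CentralLift.Basic
import Cfsg.Agent.Lib.Fusion.CentralLift.FusedTransfer

/-!
# The automorphism groups of the lift of a normal subsystem of a central quotient
-/

set_option autoImplicit false
set_option linter.style.haveILetI false

namespace Cfsg.Agent.Fusion.CentralLift

open Cfsg Cfsg.Agent.Fusion
open Cfsg.FusionSystem (normalizerIn centralizerIn imageAlong preimageAlong)
open Cfsg.Agent.Fusion91 (push push_of_mem push_mul push_inv push_conj mem_preimage_push mem_imageAlong_push)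
open Cfsg.Agent.Fusion.NormalLift (fixMod fixMod_isPGroup fixMod_normal exists_pow_coprime eq_top_of_sylow_coprime)

variable {Ω : Type*} [Group Ω] {S : Subgroup Ω} {Ω' : Type*} [Group Ω'] {S' T' : Subgroup Ω'}
  {F : FusionSystem S} {E : FusionSystem S'} {N : FusionSystem T'} {θ : S →* Ω'}
  {Z : Subgroup Ω} {p : ℕ}

/-- The automorphisms lying over `N`. -/
def overAut (F : FusionSystem S) (θ : S →* Ω') (N : FusionSystem T') (P : Subgroup Ω) :
    Subgroup (MulAut P) :=
  Subgroup.closure {α | Over F θ N P (autFun α)}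

/-- The automorphisms trivial modulo `Z`. -/
def kerAut (F : FusionSystem S) (Z P : Subgroup Ω) : Subgroup (MulAut P) := fixMod P Z ⊓ F.autGroup P

/-- `α` is transported by some map of `F` to conjugation by an element of the preimage of `T'`. -/
def InnerLike (F : FusionSystem S) (θ : S →* Ω') (T' : Subgroup Ω') (P : Subgroup Ω) (α : MulAut P) :
    Prop :=
  ∃ P' f t, IsIso F P P' f ∧ t ∈ preimageAlong θ T' ∧ ∀ x ∈ P, f (autFun α x) = t * f x * t⁻¹

/-- The automorphism groups of the lift. -/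
def baseAut (F : FusionSystem S) (θ : S →* Ω') (N : FusionSystem T') (p : ℕ) (P : Subgroup Ω) :
    Subgroup (MulAut P) :=
  Subgroup.closure {α | α ∈ overAut F θ N P ∧ (Nat.Coprime (orderOf α) p ∨ InnerLike F θ T' P α)}

theorem baseAut_le_over {P : Subgroup Ω} : baseAut F θ N p P ≤ overAut F θ N P :=
  (Subgroup.closure_le _).2 fun _ hα => hα.1

variable (h : Ctx F Z θ E N p)
include h

theorem Ctx.mem_overAut [Finite S] {P : Subgroup Ω} (hP : P ≤ preimageAlong θ T') {α : MulAut P} :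
    α ∈ overAut F θ N P ↔ Over F θ N P (autFun α) := by
  refine ⟨fun hα => ?_, fun hα => Subgroup.subset_closure hα⟩
  induction hα using Subgroup.closure_induction with
  | mem x hx => exact hx
  | one => exact (h.over_id hP).congr autFun_one.symm
  | mul x y _ _ hx hy =>
    exact (hy.comp hx fun a ha => by rw [autFun_of_mem _ ha]; exact Subtype.mem _).congr (autFun_mul x y).symm
  | inv x _ hx =>
    have hi : IsIso F P P (autFun x) := ⟨hx.1, autFun_image x⟩
    have hxi := (mem_autGroup (hP.trans (Fusion91.preimageAlong_le θ T'))).1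
      ((F.autGroup P).inv_mem (autGroup_mem_of_isMap hx.1))
    refine Over.inv h hx hi hxi fun a ha => ?_
    rw [← Function.comp_apply (f := autFun x⁻¹), ← autFun_mul x⁻¹ x ha, inv_mul_cancel, autFun_one ha, id]

theorem Ctx.overAut_le [Finite S] {P : Subgroup Ω} (hP : P ≤ preimageAlong θ T') :
    overAut F θ N P ≤ F.autGroup P := fun _ hα => autGroup_mem_of_isMap ((h.mem_overAut hP).1 hα).1

theorem Ctx.baseAut_le [Finite S] {P : Subgroup Ω} (hP : P ≤ preimageAlong θ T') :
    baseAut F θ N p P ≤ F.autGroup P := baseAut_le_over.trans (h.overAut_le hP)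

/-- Automorphisms of the system trivial modulo `Z`. -/
theorem Ctx.mem_kerAut [Finite S] {P : Subgroup Ω} (hP : P ≤ S) {α : MulAut P} (hα : α ∈ F.autGroup P) :
    α ∈ kerAut F Z P ↔ ∀ x ∈ P, push θ (autFun α x) = push θ x := by
  have hm := ((mem_autGroup hP).1 hα).1
  constructor
  · intro hk x hx
    refine ((h.push_eq (hP hx) (hm.apply_mem hx)).2 ?_).symm
    rw [autFun_of_mem α hx]
    exact hk.1.2 ⟨x, hx⟩
  · refine fun hk => ⟨⟨fun x hx => Subtype.ext ?_, fun x => ?_⟩, hα⟩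
    · rw [← autFun_coe]; exact h.fix hm x.2 hx
    · have h1 := (h.push_eq (hP x.2) (hm.apply_mem x.2)).1 (hk x x.2).symm
      rwa [autFun_coe] at h1

theorem Ctx.kerAut_over [Finite S] {P : Subgroup Ω} (hP : P ≤ preimageAlong θ T') :
    kerAut F Z P ≤ overAut F θ N P := by
  intro α hα
  have hPS := hP.trans (Fusion91.preimageAlong_le θ T')
  exact Subgroup.subset_closure ⟨((mem_autGroup hPS).1 hα.2).1, hP, id, isMap_id (h.img_le_t hP),
    fun x hx => ((h.mem_kerAut hPS hα.2).1 hα x hx).symm⟩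

theorem Ctx.kerAut_comm [Finite S] {P : Subgroup Ω} (hP : P ≤ S) {a b : MulAut P}
    (ha : a ∈ kerAut F Z P) (hb : b ∈ kerAut F Z P) : a * b = b * a := by
  refine MulEquiv.ext fun x => ?_
  rw [MulAut.mul_apply, MulAut.mul_apply]
  have e1 : b x = x * (x⁻¹ * b x) := (mul_inv_cancel_left _ _).symm
  have e2 : a x = x * (x⁻¹ * a x) := (mul_inv_cancel_left _ _).symm
  calc a (b x) = a x * (x⁻¹ * b x) := by rw [e1, map_mul, ha.1.1 _ (hb.1.2 x), ← e1]
    _ = x * ((x⁻¹ * a x) * (x⁻¹ * b x)) := by group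
    _ = x * ((x⁻¹ * b x) * (x⁻¹ * a x)) := by
      congr 1
      exact Subtype.ext (h.z_comm (hb.1.2 x) (hP (x⁻¹ * a x).2))
    _ = b x * (x⁻¹ * a x) := by group
    _ = b (a x) := by rw [e2, map_mul, hb.1.1 _ (ha.1.2 x), ← e2]

theorem Ctx.kerAut_isPGroup [Finite S] [Fact p.Prime] {P : Subgroup Ω} (hP : P ≤ S) :
    IsPGroup p (kerAut F Z P) :=
  haveI := finite_of_le hP
  (fixMod_isPGroup (h.pgroup.to_le hP)).to_le inf_le_left

theorem Ctx.kerAut_conj [Finite S] {P : Subgroup Ω} (hP : P ≤ S) {a b : MulAut P}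
    (ha : a ∈ kerAut F Z P) (hb : b ∈ F.autGroup P) : b * a * b⁻¹ ∈ kerAut F Z P := by
  refine ⟨NormalLift.fixMod_conj ha.1 fun x => ⟨fun hx => ?_, fun hx => ?_⟩,
    (F.autGroup P).mul_mem ((F.autGroup P).mul_mem hb ha.2) ((F.autGroup P).inv_mem hb)⟩
  · have h1 := h.fix ((mem_autGroup hP).1 (inv_mem hb)).1 (Subtype.mem (b x)) hx
    rw [autFun_coe, show b⁻¹ (b x) = x from b.symm_apply_apply x] at h1
    exact h1 ▸ hx
  · have h1 := h.fix ((mem_autGroup hP).1 hb).1 x.2 hx
    rw [autFun_coe] at h1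
    rw [h1]
    exact hx

/-! ### Transport -/

theorem Ctx.overAut_transport [Finite S] {P P' : Subgroup Ω} {f : Ω → Ω} (hf : IsIso F P P' f)
    (hP : P ≤ preimageAlong θ T') {α : MulAut P} (hα : α ∈ overAut F θ N P) :
    MulAut.congr hf.equiv α ∈ overAut F θ N P' := by
  have ho := (h.mem_overAut hP).1 hα
  have hk : MulAut.congr hf.equiv α ∈ F.autGroup P' := by
    rw [← autGroup_map_congr hf]
    exact ⟨α, h.overAut_le hP hα, rfl⟩
  refine Subgroup.subset_closure (h.over_transport hf ho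
    (fun x hx => by rw [autFun_of_mem _ hx]; exact Subtype.mem _)
    ((mem_autGroup hf.cod_le).1 hk).1 fun x hx => ?_)
  rw [autFun_of_mem _ (hf.mem hx), autFun_of_mem α hx]
  exact congr_apply_equiv hf α ⟨x, hx⟩

theorem Ctx.baseAut_transport [Finite S] {P P' : Subgroup Ω} {f : Ω → Ω} (hf : IsIso F P P' f)
    (hP : P ≤ preimageAlong θ T') {α : MulAut P} (hα : α ∈ baseAut F θ N p P) :
    MulAut.congr hf.equiv α ∈ baseAut F θ N p P' := by
  induction hα using Subgroup.closure_induction with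
  | mem a ha =>
    refine Subgroup.subset_closure ⟨h.overAut_transport hf hP ha.1, ha.2.imp (fun hc => ?_) ?_⟩
    · rwa [MulEquiv.orderOf_eq (MulAut.congr hf.equiv) a]
    · rintro ⟨P'', f', t, hf', ht, he⟩
      obtain ⟨k, hk, hkl, -⟩ := hf.exists_inv
      refine ⟨P'', f' ∘ k, t, hk.comp hf', ht, fun y hy => ?_⟩
      obtain ⟨x, hx, rfl⟩ := hf.exists_preimage hy
      have h1 : (a ⟨x, hx⟩ : Ω) ∈ P := Subtype.mem _
      simp only [Function.comp_apply]
      rw [autFun_of_mem _ (hf.mem hx), show ((MulAut.congr hf.equiv a) ⟨f x, hf.mem hx⟩ : Ω) =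
        f (a ⟨x, hx⟩ : Ω) from congr_apply_equiv hf a ⟨x, hx⟩, hkl _ h1, hkl x hx,
        ← autFun_of_mem a hx, he x hx]
  | one => rw [map_one]; exact one_mem _
  | mul a b _ _ ha hb => rw [map_mul]; exact mul_mem ha hb
  | inv a _ ha => rw [map_inv]; exact inv_mem ha

/-- An automorphism of the system, as a transport. -/
theorem Ctx.congr_aut [Finite S] {P : Subgroup Ω} (hP : P ≤ S) {b : MulAut P} (hb : b ∈ F.autGroup P)
    (α : MulAut P) : MulAut.congr ((mem_autGroup hP).1 hb).equiv α = b * α * b⁻¹ := by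
  refine MulEquiv.ext fun x => Subtype.ext ?_
  obtain ⟨y, rfl⟩ := b.surjective x
  have he : ((mem_autGroup hP).1 hb).equiv y = b y := Subtype.ext (by rw [IsIso.equiv_apply, autFun_coe])
  rw [← he, congr_apply_equiv, he, autFun_coe, MulAut.mul_apply, MulAut.mul_apply,
    show b⁻¹ (b y) = y from b.symm_apply_apply y]

theorem Ctx.overAut_conj [Finite S] {P : Subgroup Ω} (hP : P ≤ preimageAlong θ T') {a b : MulAut P}
    (ha : a ∈ overAut F θ N P) (hb : b ∈ F.autGroup P) : b * a * b⁻¹ ∈ overAut F θ N P := by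
  rw [← h.congr_aut (hP.trans (Fusion91.preimageAlong_le θ T')) hb a]
  exact h.overAut_transport _ hP ha

theorem Ctx.baseAut_conj [Finite S] {P : Subgroup Ω} (hP : P ≤ preimageAlong θ T') {a b : MulAut P}
    (ha : a ∈ baseAut F θ N p P) (hb : b ∈ F.autGroup P) : b * a * b⁻¹ ∈ baseAut F θ N p P := by
  rw [← h.congr_aut (hP.trans (Fusion91.preimageAlong_le θ T')) hb a]
  exact h.baseAut_transport _ hP ha

theorem Ctx.induced_le_base [Finite S] {P : Subgroup Ω} (hP : P ≤ preimageAlong θ T') :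
    autInducedBy (preimageAlong θ T') P ≤ baseAut F θ N p P := by
  intro α hα
  obtain ⟨t, ht, htα⟩ := mem_autInducedBy.1 hα
  have he : Set.EqOn (fun x => t * x * t⁻¹) (autFun α) P := fun x hx => by
    rw [autFun_of_mem α hx]; exact (htα ⟨x, hx⟩).symm
  exact Subgroup.subset_closure ⟨Subgroup.subset_closure ((h.over_conj hP ht).congr he),
    Or.inr ⟨P, id, t, isIso_id (hP.trans (Fusion91.preimageAlong_le θ T')), ht, fun x hx => (he hx).symm⟩⟩

/-! ### At a fully normalized subgroup -/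

variable [Finite S] [Fact p.Prime] {R : Subgroup Ω}

theorem Ctx.kerAut_induced (hR : F.IsFullyNormalized R) : kerAut F Z R ≤ autInducedBy S R := by
  haveI := finite_of_le hR.1
  haveI := finite_mulAut R
  obtain ⟨Y, hY⟩ := (fullyAutomized_of_fullyNormalized h.pgroup h.sat hR).2
  haveI hn : ((kerAut F Z R).subgroupOf (F.autGroup R)).Normal :=
    ⟨fun a ha b => h.kerAut_conj hR.1 ha b.2⟩
  intro α hα
  have hp : IsPGroup p ((kerAut F Z R).subgroupOf (F.autGroup R)) :=
    (h.kerAut_isPGroup hR.1).comap_of_injective _ (Subgroup.subtype_injective _)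
  have h1 := hp.le_sylow_of_normal Y (show (⟨α, hα.2⟩ : F.autGroup R) ∈ _ from hα)
  rw [hY] at h1
  exact h1

theorem Ctx.conj_induced (hR : F.IsFullyNormalized R) (hRT : R ≤ preimageAlong θ T') {a b : MulAut R}
    (ha : a ∈ F.autGroup R) (hb : b ∈ autInducedBy (preimageAlong θ T') R)
    (hab : a * b * a⁻¹ ∈ autInducedBy S R) : a * b * a⁻¹ ∈ autInducedBy (preimageAlong θ T') R := by
  obtain ⟨t, ht, htb⟩ := mem_autInducedBy.1 hb
  obtain ⟨s, hs, hsab⟩ := mem_autInducedBy.1 hab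
  have hai := (mem_autGroup hR.1).1 ha
  have htN := mem_normalizer_of_induces htb
  obtain ⟨φ, -, hφf⟩ := id hai.1
  have hM : IsExtendable S R (autFun a) (Subgroup.zpowers t) := by
    have hle : Subgroup.zpowers t ≤ FusionSystem.extender S R φ := Subgroup.zpowers_le.2
      ((mem_extender_fun hφf).2 ⟨Fusion91.preimageAlong_le θ T' ht, htN, s, hs, fun x hx => by
        have hy : t * x * t⁻¹ ∈ R := conj_mem_of_mem_normalizer htN hx
        rw [autFun_of_mem a hy, show (⟨t * x * t⁻¹, hy⟩ : R) = b ⟨x, hx⟩ from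
          Subtype.ext (htb ⟨x, hx⟩).symm]
        have h1 := hsab (a ⟨x, hx⟩)
        rw [MulAut.mul_apply, MulAut.mul_apply, show a⁻¹ (a ⟨x, hx⟩) = ⟨x, hx⟩ from
          a.symm_apply_apply _] at h1
        rw [h1, autFun_of_mem a hx]⟩)
    exact ⟨hle.trans (isExtendable_extender hφf).1, fun g hg => (isExtendable_extender hφf).2 g (hle hg)⟩
  obtain ⟨f', hf', he⟩ := receptive_extend (receptive_of_fullyNormalized h.pgroup h.sat hR) hai hM
  have htM : t ∈ R ⊔ Subgroup.zpowers t := Subgroup.mem_sup_right (Subgroup.mem_zpowers t)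
  refine mem_autInducedBy.2 ⟨f' t, (stronglyClosed_iff.1 h.closed).2 _ _ hf' t htM ht, fun x => ?_⟩
  have h2 : ((a⁻¹ x : R) : Ω) ∈ R := Subtype.mem _
  rw [MulAut.mul_apply, MulAut.mul_apply, ← autFun_coe, htb (a⁻¹ x),
    ← he (conj_mem_of_mem_normalizer htN h2),
    hf'.map_conj htM (Subgroup.mem_sup_left h2), he h2, autFun_coe,
    show a (a⁻¹ x) = x from a.apply_symm_apply x]

/-- Conjugation by an element over `N` is trivial on `kerAut` modulo `Aut_T(R)`. -/
theorem Ctx.ker_fused (hR : F.IsFullyNormalized R) (hM : Mem θ Z N R) {a k : MulAut R}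
    (ha : a ∈ overAut F θ N R) (hk : k ∈ kerAut F Z R) :
    a * k * a⁻¹ * k⁻¹ ∈ autInducedBy (preimageAlong θ T') R := by
  haveI := h.finS'
  have hRS := hR.1
  set R' := imageAlong θ R with hR'
  have hR'S := h.img_le hRS
  have hc : centralizerIn T' R' ≤ R' := hM.2.2.2 R' (isConj_refl hM.2.2.1)
  obtain ⟨-, -, g, hg, hge⟩ := (h.mem_overAut hM.2.1).1 ha
  have hmem : ∀ x ∈ R, autFun a x ∈ R := fun x hx => by rw [autFun_of_mem a hx]; exact Subtype.mem _
  have hgi : IsIso N R' R' g := by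
    haveI := finite_of_le h.t_le
    refine NormalLift.isIso_of_mapsTo hg (h.img_le_t hM.2.1) (fun y hy => ?_) le_rfl
    obtain ⟨x, hx, rfl⟩ := (mem_imageAlong_push hRS).1 hy
    rw [hge x hx]
    exact push_mem_image hRS (hmem x hx)
  obtain ⟨n, hn, hne⟩ := hgi.exists_aut
  obtain ⟨γ, hγ, hγe, hγc⟩ := h.nData.exists_lift (h.img_fullyNormalized hR hM.1)
    (h.img_le_t hM.2.1) hc n hn
  set D' := R' ⊔ centralizerIn S' R' with hD'
  have hD'S : D' ≤ S' := sup_le hR'S (centralizerIn_le _ _)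
  obtain ⟨b, hb, hbe⟩ := Fusion91.exists_lift_map h.surj ((mem_autGroup hD'S).1 hγ).1
  have hRD : R ≤ preimageAlong θ D' := fun x hx =>
    mem_preimage_push.2 ⟨hRS hx, Subgroup.mem_sup_left (push_mem_image hRS hx)⟩
  have hbR : ∀ x ∈ R, push θ (b x) = push θ (autFun a x) := fun x hx => by
    rw [hbe x (hRD hx), hγe (push_mem_image hRS hx), hne (push_mem_image hRS hx), hge x hx]
  have hbRi : IsIso F R R b := NormalLift.isIso_of_mapsTo (hb.mono hRD) hRS
    (fun x hx => h.mem_of_push hRS hM.1 (hb.apply_mem (hRD hx)) (by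
      rw [hbR x hx]; exact push_mem_image hRS (hmem x hx))) le_rfl
  obtain ⟨b₀, hb₀, hb₀e⟩ := hbRi.exists_aut
  have haF := h.overAut_le hM.2.1 ha
  have hk₁ : b₀⁻¹ * a ∈ kerAut F Z R := by
    have hm : b₀⁻¹ * a ∈ F.autGroup R := mul_mem (inv_mem hb₀) haF
    refine (h.mem_kerAut hRS hm).2 fun x hx => ?_
    set y := ((b₀⁻¹ * a) ⟨x, hx⟩ : R) with hy
    have h1 : push θ (b y) = push θ (b x) := by
      rw [← hb₀e y.2, autFun_coe, hy, MulAut.mul_apply, show b₀ (b₀⁻¹ (a ⟨x, hx⟩)) = a ⟨x, hx⟩ from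
        b₀.apply_symm_apply _, hbR x hx, autFun_of_mem a hx]
    have h2 := (h.push_eq (hb.apply_mem (hRD hx)) (hb.apply_mem (hRD y.2))).1 h1.symm
    rw [← hb.map_inv (hRD hx), ← hb.map_mul (inv_mem (hRD hx)) (hRD y.2)] at h2
    -- the element `x⁻¹ y` is mapped into `Z`, hence lies in `Z`
    obtain ⟨z, hz, hzi, hzl, -⟩ : ∃ z, IsIso F R R z ∧ IsMap F R z ∧ (∀ w ∈ R, z (b w) = w) ∧ True := by
      obtain ⟨z, hz, hzl, -⟩ := hbRi.exists_inv
      exact ⟨z, hz, hz.1, hzl, trivial⟩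
    have hw : x⁻¹ * (y : Ω) ∈ R := R.mul_mem (inv_mem hx) y.2
    have h3 : x⁻¹ * (y : Ω) ∈ Z := by
      have h4 := h.fix hzi (hM.1 h2) h2
      rw [hzl _ hw] at h4
      exact h4 ▸ h2
    rw [autFun_of_mem _ hx]
    exact ((h.push_eq (hRS hx) (hRS y.2)).2 h3).symm
  -- `k` is induced by an element centralising the image
  obtain ⟨s, hs, hsk⟩ := mem_autInducedBy.1 (h.kerAut_induced hR hk)
  have hsN := mem_normalizer_of_induces hsk
  have hsC : push θ s ∈ centralizerIn S' R' := by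
    refine ⟨Fusion91.push_mem h.surj.2.1 hs, Subgroup.mem_centralizer_iff.2 fun y hy => ?_⟩
    obtain ⟨x, hx, rfl⟩ := (mem_imageAlong_push hRS).1 hy
    have h1 := (h.mem_kerAut hRS hk.2).1 hk x hx
    rw [autFun_of_mem k hx, hsk ⟨x, hx⟩, push_conj hs (hRS hx)] at h1
    exact (mul_inv_eq_iff_eq_mul.1 h1).symm
  have hsD : s ∈ preimageAlong θ D' := mem_preimage_push.2 ⟨hs, Subgroup.mem_sup_right hsC⟩
  have hr : s⁻¹ * b s ∈ R := by
    refine h.mem_of_push hRS hM.1 (S.mul_mem (S.inv_mem hs) (hb.apply_mem hsD)) ?_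
    rw [push_mul (S.inv_mem hs) (hb.apply_mem hsD), push_inv hs, hbe s hsD]
    exact hγc _ hsC
  -- compute
  have hak : a * k * a⁻¹ = b₀ * k * b₀⁻¹ := by
    have hc1 := h.kerAut_comm hRS hk₁ hk
    calc a * k * a⁻¹ = b₀ * ((b₀⁻¹ * a) * k) * (b₀⁻¹ * a)⁻¹ * b₀⁻¹ := by group
      _ = b₀ * (k * (b₀⁻¹ * a)) * (b₀⁻¹ * a)⁻¹ * b₀⁻¹ := by rw [hc1]
      _ = b₀ * k * b₀⁻¹ := by group
  have hconj : ∀ x : R, ((b₀ * k * b₀⁻¹) x : Ω) = b s * x * (b s)⁻¹ := by
    intro x
    obtain ⟨w, rfl⟩ := b₀.surjective x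
    rw [MulAut.mul_apply, MulAut.mul_apply, show b₀⁻¹ (b₀ w) = w from b₀.symm_apply_apply _,
      ← autFun_coe, hb₀e (k w).2, hsk w, hb.map_conj hsD (hRD w.2), ← hb₀e w.2, autFun_coe]
  have hrN : s * (s⁻¹ * b s) * s⁻¹ ∈ R := conj_mem_of_mem_normalizer hsN hr
  refine mem_autInducedBy.2 ⟨s * (s⁻¹ * b s) * s⁻¹, hM.2.1 hrN, fun x => ?_⟩
  rw [hak, MulAut.mul_apply, hconj]
  have hk2 : ((k⁻¹ x : R) : Ω) = s⁻¹ * x * s := by
    have h1 := hsk (k⁻¹ x)
    rw [show k (k⁻¹ x) = x from k.apply_symm_apply x] at h1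
    rw [h1]
    group
  rw [hk2]
  group

/-- Automorphisms over `N` induced by `S` split. -/
theorem Ctx.split (hR : F.IsFullyNormalized R) (hM : Mem θ Z N R) {u : MulAut R}
    (hu : u ∈ overAut F θ N R) (huS : u ∈ autInducedBy S R) :
    ∃ b ∈ autInducedBy (preimageAlong θ T') R, ∃ k ∈ kerAut F Z R, u = b * k := by
  haveI := h.finS'
  haveI := finite_of_le h.t_le
  have hRS := hR.1
  set R' := imageAlong θ R with hR'
  obtain ⟨-, -, g, hg, hge⟩ := (h.mem_overAut hM.2.1).1 hu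
  obtain ⟨s, hs, hsu⟩ := mem_autInducedBy.1 huS
  have hsN := mem_normalizer_of_induces hsu
  have hsimg : push θ s ∈ normalizerIn S' R' := by
    refine (h.img_norm hRS hM.1 le_rfl hs).1 ⟨?_, hsN⟩
    rw [h.pre_top]; exact hs
  have hgR : Set.EqOn g (fun y => push θ s * y * (push θ s)⁻¹) R' := fun y hy => by
    obtain ⟨x, hx, rfl⟩ := (mem_imageAlong_push hRS).1 hy
    rw [hge x hx, autFun_of_mem u hx, hsu ⟨x, hx⟩, push_conj hs (hRS hx)]
  haveI := finite_of_le (h.img_le hRS)
  haveI := finite_mulAut R'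
  set c := conjAutHom S' R' ⟨_, hsimg⟩ with hc
  have hcN : c ∈ N.autGroup R' := autGroup_mem_of_isMap (hg.congr fun y hy => by
    rw [hgR hy, autFun_of_mem _ hy]; rfl)
  -- Sylow subgroup of `Aut_N(R')`
  obtain ⟨Y, hY⟩ := (fullyAutomized_of_fullyNormalized h.t_p h.nData.eSat
    (h.img_fullyNormalized_N hR hM.1 hM.2.1)).2
  have hUp : IsPGroup p ((autInducedBy S' R').subgroupOf (N.autGroup R')) := by
    refine IsPGroup.comap_subtype ?_
    rw [← range_conjAutHom]
    exact (h.pS'.to_le (normalizerIn_le S' R')).of_surjective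
      (conjAutHom S' R').rangeRestrict (MonoidHom.rangeRestrict_surjective _)
  have hcT : c ∈ autInducedBy T' R' := by
    have hle : (Y : Subgroup (N.autGroup R')) ≤ (autInducedBy S' R').subgroupOf (N.autGroup R') := by
      rw [hY]
      exact Subgroup.comap_mono (autInducedBy_mono h.t_le)
    have heq := Y.is_maximal' hUp hle
    have hm : (⟨c, hcN⟩ : N.autGroup R') ∈ (autInducedBy S' R').subgroupOf (N.autGroup R') := by
      show c ∈ autInducedBy S' R'
      rw [← range_conjAutHom]; exact ⟨_, rfl⟩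
    rw [heq, hY] at hm
    exact hm
  obtain ⟨t', ht', htc⟩ := mem_autInducedBy.1 hcT
  obtain ⟨t, htS, rfl⟩ := Fusion91.exists_push_eq h.surj.2.1 (h.t_le ht')
  have htT : t ∈ preimageAlong θ T' := mem_preimage_push.2 ⟨htS, ht'⟩
  have htN : t ∈ normalizerIn (preimageAlong θ T') R :=
    (h.img_norm hRS hM.1 h.t_le htS).2 ⟨ht', mem_normalizer_of_induces htc⟩
  set b := conjAutHom (preimageAlong θ T') R ⟨t, htN⟩ with hb
  have hbT : b ∈ autInducedBy (preimageAlong θ T') R := by
    rw [← range_conjAutHom]; exact ⟨_, rfl⟩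
  have hm : b⁻¹ * u ∈ F.autGroup R :=
    mul_mem (inv_mem (h.baseAut_le hM.2.1 (h.induced_le_base hM.2.1 hbT))) (h.overAut_le hM.2.1 hu)
  refine ⟨b, hbT, b⁻¹ * u, (h.mem_kerAut hRS hm).2 fun x hx => ?_, (mul_inv_cancel_left _ _).symm⟩
  set y := ((b⁻¹ * u) ⟨x, hx⟩ : R) with hy
  have e1 : b y = u ⟨x, hx⟩ := by rw [hy, MulAut.mul_apply]; exact b.apply_symm_apply _
  have h1 : push θ (t * y * t⁻¹) = push θ (s * x * s⁻¹) := by
    rw [← hsu ⟨x, hx⟩, ← e1, hb, conjAutHom_apply]
  have h2 : push θ (t * x * t⁻¹) = push θ (s * x * s⁻¹) := by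
    rw [push_conj htS (hRS hx), push_conj hs (hRS hx)]
    have := htc ⟨_, push_mem_image hRS hx⟩
    rw [hc, conjAutHom_apply] at this
    exact this.symm
  rw [autFun_of_mem _ hx]
  have h3 := h1.trans h2.symm
  rw [push_conj htS (hRS y.2), push_conj htS (hRS hx)] at h3
  exact mul_left_cancel (mul_right_cancel h3)

/-- The fusion condition for `Aut_T(R)` inside the Sylow subgroup of the automorphisms over `N`. -/
theorem Ctx.fuse (hR : F.IsFullyNormalized R) (hM : Mem θ Z N R) {a u : MulAut R}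
    (ha : a ∈ overAut F θ N R) (hu : u ∈ overAut F θ N R) (huS : u ∈ autInducedBy S R)
    (hau : a * u * a⁻¹ ∈ autInducedBy S R) :
    u⁻¹ * (a * u * a⁻¹) ∈ autInducedBy (preimageAlong θ T') R := by
  obtain ⟨b, hb, k, hk, rfl⟩ := h.split hR hM hu huS
  have haF := h.overAut_le hM.2.1 ha
  have hak := h.kerAut_conj hR.1 hk haF
  have hab : a * b * a⁻¹ ∈ autInducedBy (preimageAlong θ T') R := by
    refine h.conj_induced hR hM.2.1 haF hb ?_
    rw [show a * b * a⁻¹ = (a * (b * k) * a⁻¹) * (a * k * a⁻¹)⁻¹ by group]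
    exact mul_mem hau (inv_mem (h.kerAut_induced hR hak))
  have hB : ∀ x ∈ autInducedBy (preimageAlong θ T') R, k⁻¹ * x * k ∈ autInducedBy (preimageAlong θ T') R := by
    intro x hx
    have h1 := h.conj_induced hR hM.2.1 (inv_mem hk.2) hx
    rw [inv_inv] at h1
    exact h1 (mul_mem (mul_mem (inv_mem (h.kerAut_induced hR hk))
      (autInducedBy_mono (Fusion91.preimageAlong_le θ T') hx)) (h.kerAut_induced hR hk))
  have h2 := h.ker_fused hR hM ha hk
  have h3 : (b * k)⁻¹ * (a * (b * k) * a⁻¹) =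
      (k⁻¹ * (b⁻¹ * (a * b * a⁻¹)) * k) * (k⁻¹ * (a * k * a⁻¹)) := by group
  rw [h3]
  refine mul_mem (hB _ (mul_mem (inv_mem hb) hab)) ?_
  rw [show k⁻¹ * (a * k * a⁻¹) = k⁻¹ * (a * k * a⁻¹ * k⁻¹) * k by group]
  exact hB _ h2

/-- The Sylow subgroup of the automorphisms over `N`. -/
theorem Ctx.exists_sylow_over (hR : F.IsFullyNormalized R) (hRT : R ≤ preimageAlong θ T') :
    ∃ U : Sylow p (overAut F θ N R), ∀ a : overAut F θ N R,
      a ∈ (U : Subgroup (overAut F θ N R)) ↔ (a : MulAut R) ∈ autInducedBy S R := by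
  haveI := finite_of_le hR.1
  haveI := finite_mulAut R
  obtain ⟨Y, hY⟩ := (fullyAutomized_of_fullyNormalized h.pgroup h.sat hR).2
  haveI : ((overAut F θ N R).subgroupOf (F.autGroup R)).Normal :=
    ⟨fun a ha b => h.overAut_conj hRT ha b.2⟩
  obtain ⟨W, hW⟩ := Transfer.exists_sylow_subgroupOf_normal Y ((overAut F θ N R).subgroupOf (F.autGroup R))
  refine ⟨W.mapSurjective (f := (Subgroup.subgroupOfEquivOfLe (h.overAut_le hRT)).toMonoidHom)
    (Subgroup.subgroupOfEquivOfLe (h.overAut_le hRT)).surjective, fun a => ?_⟩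
  show a ∈ (W : Subgroup ↥((overAut F θ N R).subgroupOf (F.autGroup R))).map _ ↔ _
  rw [hW, hY]
  constructor
  · rintro ⟨w, hw, rfl⟩
    exact hw
  · intro ha
    exact ⟨⟨⟨a, h.overAut_le hRT a.2⟩, a.2⟩, ha, Subtype.ext rfl⟩

/-- `Aut_T(R)` is the intersection of the lifted group with `Aut_S(R)`. -/
theorem Ctx.base_inter (hR : F.IsFullyNormalized R) (hM : Mem θ Z N R) {α : MulAut R}
    (hα : α ∈ baseAut F θ N p R) (hαS : α ∈ autInducedBy S R) :
    α ∈ autInducedBy (preimageAlong θ T') R := by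
  haveI := finite_of_le hR.1
  haveI := finite_mulAut R
  have hBo : autInducedBy (preimageAlong θ T') R ≤ overAut F θ N R :=
    (h.induced_le_base hM.2.1).trans baseAut_le_over
  obtain ⟨U, hU⟩ := h.exists_sylow_over hR hM.2.1
  obtain ⟨K, hKn, hK, hKU⟩ := exists_kernel_of_fused U
    ((autInducedBy (preimageAlong θ T') R).subgroupOf (overAut F θ N R))
    (fun a ha => (hU a).2 (autInducedBy_mono (Fusion91.preimageAlong_le θ T') ha))
    (fun u hu a hau => h.fuse hR hM a.2 u.2 ((hU u).1 hu) ((hU _).1 hau))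
  have key : ∀ (β : MulAut R) (hβ : β ∈ baseAut F θ N p R),
      (⟨β, baseAut_le_over hβ⟩ : overAut F θ N R) ∈ K := by
    intro β hβ
    induction hβ using Subgroup.closure_induction with
    | mem x hx =>
      rcases hx.2 with hc | ⟨P', f, t, hf, ht, he⟩
      · exact hK _ (by rwa [← Subgroup.orderOf_coe])
      · -- transport to `Aut_T(R)`
        obtain ⟨φ, hφ, hφP, hφN⟩ := exists_normalizer_map h.pgroup
          (fullyAutomized_of_fullyNormalized h.pgroup h.sat hR)
          (receptive_of_fullyNormalized h.pgroup h.sat hR) (isConj_symm hf.isConj)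
        have hP'T : P' ≤ preimageAlong θ T' := h.le_t_of_iso hf hM.2.1
        have hP'S := hf.cod_le
        have htN : t ∈ normalizerIn S P' := by
          refine ⟨Fusion91.preimageAlong_le θ T' ht, mem_normalizer_of_induces
            (α := MulAut.congr hf.equiv x) fun w => ?_⟩
          obtain ⟨v, rfl⟩ := hf.equiv.surjective w
          rw [congr_apply_equiv, ← autFun_coe, he v v.2, hf.equiv_apply]
        have hψ := hf.comp hφP
        obtain ⟨a', ha', ha'e⟩ := hψ.exists_aut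
        have hφt : φ t ∈ preimageAlong θ T' := (stronglyClosed_iff.1 h.closed).2 _ _ hφ t htN ht
        have hx' : ∀ w : R, ((a' * x * a'⁻¹) w : Ω) = φ t * w * (φ t)⁻¹ := by
          intro w
          obtain ⟨v, rfl⟩ := a'.surjective w
          rw [MulAut.mul_apply, MulAut.mul_apply, show a'⁻¹ (a' v) = v from a'.symm_apply_apply _,
            ← autFun_coe, ha'e (x v).2, ← autFun_coe a' v, ha'e v.2, Function.comp_apply,
            ← autFun_coe x v, he v v.2, hφ.map_conj htN (le_normalizerIn hP'S (hf.mem v.2))]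
          rfl
        have hb : a' * x * a'⁻¹ ∈ autInducedBy (preimageAlong θ T') R :=
          mem_autInducedBy.2 ⟨φ t, hφt, hx'⟩
        set X : overAut F θ N R := ⟨x, hx.1⟩ with hX
        have hord : ∃ k, orderOf X = p ^ k := by
          have h1 : IsPGroup p (autInducedBy (preimageAlong θ T') R) := by
            rw [← range_conjAutHom]
            exact (h.pgroup.to_le ((normalizerIn_le _ R).trans (Fusion91.preimageAlong_le θ T'))).of_surjective
              (conjAutHom _ R).rangeRestrict (MonoidHom.rangeRestrict_surjective _)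
          obtain ⟨k, hk⟩ := IsPGroup.iff_orderOf.1 h1 ⟨_, hb⟩
          refine ⟨k, ?_⟩
          rw [← hk, Subgroup.orderOf_mk, ← Subgroup.orderOf_coe]
          exact (MulEquiv.orderOf_eq (MulAut.conj a') x).symm
        obtain ⟨Q, hQ⟩ : ∃ Q : Sylow p (overAut F θ N R), X ∈ (Q : Subgroup _) := by
          obtain ⟨k, hk⟩ := hord
          have hp : IsPGroup p (Subgroup.zpowers X) :=
            IsPGroup.of_card (by rw [Nat.card_zpowers, hk])
          obtain ⟨Q, hQ⟩ := hp.exists_le_sylow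
          exact ⟨Q, hQ (Subgroup.mem_zpowers X)⟩
        obtain ⟨c, hc⟩ := MulAction.exists_smul_eq (overAut F θ N R) Q U
        have hcX : c * X * c⁻¹ ∈ (U : Subgroup _) := by
          rw [← hc]
          exact ⟨X, hQ, rfl⟩
        have hcB : ((c * X * c⁻¹ : overAut F θ N R) : MulAut R) ∈ autInducedBy (preimageAlong θ T') R := by
          have hcS := (hU _).1 hcX
          have e : ((c * X * c⁻¹ : overAut F θ N R) : MulAut R) =
              ((c : MulAut R) * a'⁻¹) * (a' * x * a'⁻¹) * ((c : MulAut R) * a'⁻¹)⁻¹ := by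
            push_cast; rw [hX]; group
          rw [e] at hcS ⊢
          exact h.conj_induced hR hM.2.1 (mul_mem (h.overAut_le hM.2.1 c.2) (inv_mem ha')) hb hcS
        have h1 : c * X * c⁻¹ ∈ K := (hKU.ge (show c * X * c⁻¹ ∈ _ from hcB)).2
        have h2 := hKn.conj_mem _ h1 c⁻¹
        rw [inv_inv, show c⁻¹ * (c * X * c⁻¹) * c = X by group] at h2
        exact h2
    | one => exact K.one_mem
    | mul x y hx hy hxK hyK => exact K.mul_mem hxK hyK
    | inv x hx hxK => exact K.inv_mem hxK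
  exact hKU.le ⟨(hU ⟨α, baseAut_le_over hα⟩).2 hαS, key α hα⟩

/-- Everything over `N` is generated by the lifted group and the kernel. -/
theorem Ctx.over_le_sup (hR : F.IsFullyNormalized R) (hM : Mem θ Z N R) :
    overAut F θ N R ≤ baseAut F θ N p R ⊔ kerAut F Z R := by
  haveI := finite_of_le hR.1
  haveI := finite_mulAut R
  obtain ⟨U, hU⟩ := h.exists_sylow_over hR hM.2.1
  have htop : (baseAut F θ N p R ⊔ kerAut F Z R).subgroupOf (overAut F θ N R) = ⊤ := by
    refine eq_top_of_sylow_coprime U _ (fun a ha => ?_) fun a ha => ?_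
    · obtain ⟨b, hb, k, hk, he⟩ := h.split hR hM a.2 ((hU a).1 ha)
      show (a : MulAut R) ∈ baseAut F θ N p R ⊔ kerAut F Z R
      rw [he]
      exact Subgroup.mul_mem_sup (h.induced_le_base hM.2.1 hb) hk
    · exact Subgroup.mem_sup_left (Subgroup.subset_closure
        ⟨a.2, Or.inl ((Subgroup.orderOf_coe a).symm ▸ ha)⟩)
  exact Subgroup.subgroupOf_eq_top.1 htop

/-- The Sylow subgroup of the lifted group. -/
theorem Ctx.card_le_induced (hR : F.IsFullyNormalized R) (hM : Mem θ Z N R) {Y : Subgroup (MulAut R)}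
    (hY : Y ≤ baseAut F θ N p R) (hYp : IsPGroup p Y) :
    Nat.card Y ≤ Nat.card (autInducedBy (preimageAlong θ T') R) := by
  haveI := finite_of_le hR.1
  haveI := finite_mulAut R
  obtain ⟨P₀, hP₀⟩ := (fullyAutomized_of_fullyNormalized h.pgroup h.sat hR).2
  have hle : Y ≤ F.autGroup R := hY.trans (h.baseAut_le hM.2.1)
  have hYp' : IsPGroup p (Y.subgroupOf (F.autGroup R)) :=
    hYp.comap_of_injective _ (Subgroup.subtype_injective _)
  obtain ⟨Q, hQ⟩ := hYp'.exists_le_sylow
  obtain ⟨β, hβ⟩ := MulAction.exists_smul_eq (F.autGroup R) Q P₀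
  refine Nat.card_le_card_of_injective (fun y : Y =>
    (⟨(β : MulAut R) * (y : MulAut R) * (β : MulAut R)⁻¹, ?_⟩ : autInducedBy (preimageAlong θ T') R))
    fun a b hab => Subtype.ext (mul_left_cancel (mul_right_cancel (congrArg Subtype.val hab)))
  refine h.base_inter hR hM (h.baseAut_conj hM.2.1 (hY y.2) β.2) ?_
  have h1 : β * ⟨(y : MulAut R), hle y.2⟩ * β⁻¹ ∈ (β • Q : Sylow p (F.autGroup R)) :=
    ⟨_, hQ (show (⟨(y : MulAut R), hle y.2⟩ : F.autGroup R) ∈ Y.subgroupOf _ from y.2), rfl⟩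
  rw [hβ] at h1
  replace h1 : _ ∈ (P₀ : Subgroup (F.autGroup R)) := h1
  rw [hP₀, Subgroup.mem_subgroupOf] at h1
  exact h1

end Cfsg.Agent.Fusion.CentralLift
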