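import Cfsg.Agent.Lib.Fusion.NormalCentralizer
import Cfsg.Agent.Fusion91.Image

/-!
# Central quotients: subgroups, maps and the predicate of maps lying over a normal subsystem

`F` is saturated over `S`, `Z` is central in `F`, `θ` is the projection onto the factor system `E`
over `S'`, and `N` over `T'` is normal in `E`. The preimage of `T'` is called `top θ T'`.
-/

set_option autoImplicit false
set_option linter.style.haveILetI false

namespace Cfsg.Agent.Fusion.CentralLift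

open Cfsg Cfsg.Agent.Fusion
open Cfsg.FusionSystem (normalizerIn centralizerIn imageAlong preimageAlong)
open Cfsg.Agent.Fusion91 (push push_of_mem push_mul push_inv push_conj mem_preimage_push mem_imageAlong_push)

variable {Ω : Type*} [Group Ω] {S : Subgroup Ω} {Ω' : Type*} [Group Ω'] {S' T' : Subgroup Ω'}
  {F : FusionSystem S} {E : FusionSystem S'} {N : FusionSystem T'} {θ : S →* Ω'}
  {Z : Subgroup Ω} {p : ℕ}

/-- The hypotheses: a central quotient and a normal subsystem of it. -/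
structure Ctx (F : FusionSystem S) (Z : Subgroup Ω) (θ : S →* Ω') (E : FusionSystem S')
    (N : FusionSystem T') (p : ℕ) : Prop where
  pgroup : IsPGroup p S
  sat : F.IsSaturated p
  central : F.IsCentral Z
  kerθ : ∀ s : S, θ s = 1 ↔ (s : Ω) ∈ Z
  surj : F.IsSurjectiveMorphism E θ
  normal : N.IsNormalIn E p

variable (h : Ctx F Z θ E N p)
include h

theorem Ctx.zS : Z ≤ S := h.central.1

theorem Ctx.finS' [Finite S] : Finite S' := by
  rw [← h.surj.2.1]
  exact (Set.finite_range θ).to_subtype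

theorem Ctx.pS' : IsPGroup p S' := by
  rw [← h.surj.2.1]
  exact h.pgroup.of_surjective θ.rangeRestrict θ.rangeRestrict_surjective

theorem Ctx.nData : NormalLift.NData E N p := ⟨h.pS', h.normal.1.2.1, h.normal⟩

theorem Ctx.t_le : T' ≤ S' := h.nData.tS

theorem Ctx.t_p : IsPGroup p T' := h.pS'.to_le h.t_le

theorem Ctx.push_eq_one {x : Ω} (hx : x ∈ S) : push θ x = 1 ↔ x ∈ Z := by
  rw [push_of_mem hx, h.kerθ]

theorem Ctx.push_eq {x y : Ω} (hx : x ∈ S) (hy : y ∈ S) : push θ x = push θ y ↔ x⁻¹ * y ∈ Z := by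
  rw [← h.push_eq_one (S.mul_mem (S.inv_mem hx) hy), push_mul (S.inv_mem hx) hy, push_inv hx,
    inv_mul_eq_one]

theorem Ctx.z_comm {z x : Ω} (hz : z ∈ Z) (hx : x ∈ S) : x * z = z * x :=
  F.center_le_centralizer (le_sSup (show Z ∈ {Q | F.IsCentral Q} from h.central) hz) x hx

/-- Maps fix the elements of `Z`. -/
theorem Ctx.fix {P : Subgroup Ω} {f : Ω → Ω} (hf : IsMap F P f) {x : Ω} (hx : x ∈ P) (hz : x ∈ Z) :
    f x = x := by
  obtain ⟨f', -, he, hfix⟩ := (isCentral_iff.1 h.central).2 P f hf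
  exact (he hx).symm.trans (hfix x hz)

/-- Every map extends to the product of its source with `Z`. -/
theorem Ctx.extend {P : Subgroup Ω} {f : Ω → Ω} (hf : IsMap F P f) :
    ∃ f', IsMap F (P ⊔ Z) f' ∧ Set.EqOn f' f P ∧ ∀ z ∈ Z, f' z = z :=
  (isCentral_iff.1 h.central).2 P f hf

/-- The preimage in `S` of `Q`. -/
theorem Ctx.z_le_pre (Q : Subgroup Ω') : Z ≤ preimageAlong θ Q := fun z hz =>
  mem_preimage_push.2 ⟨h.zS hz, ((h.push_eq_one (h.zS hz)).2 hz).symm ▸ Q.one_mem⟩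

omit h in
theorem imageAlong_mono {P P' : Subgroup Ω} (hP' : P' ≤ S) (hle : P ≤ P') :
    imageAlong θ P ≤ imageAlong θ P' := by
  intro y hy
  obtain ⟨x, hx, rfl⟩ := (mem_imageAlong_push (hle.trans hP')).1 hy
  exact (mem_imageAlong_push hP').2 ⟨x, hle hx, rfl⟩

omit h in
theorem push_mem_image {P : Subgroup Ω} (hP : P ≤ S) {x : Ω} (hx : x ∈ P) :
    push θ x ∈ imageAlong θ P :=
  (mem_imageAlong_push hP).2 ⟨x, hx, rfl⟩

theorem Ctx.mem_of_push {P : Subgroup Ω} (hP : P ≤ S) (hZ : Z ≤ P) {x : Ω} (hx : x ∈ S)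
    (hxP : push θ x ∈ imageAlong θ P) : x ∈ P := by
  obtain ⟨y, hy, he⟩ := (mem_imageAlong_push hP).1 hxP
  have h1 := (h.push_eq (hP hy) hx).1 he
  rw [show x = y * (y⁻¹ * x) by group]
  exact P.mul_mem hy (hZ h1)

theorem Ctx.pre_img {P : Subgroup Ω} (hP : P ≤ S) (hZ : Z ≤ P) :
    preimageAlong θ (imageAlong θ P) = P :=
  le_antisymm (fun _ hx => h.mem_of_push hP hZ (mem_preimage_push.1 hx).1 (mem_preimage_push.1 hx).2)
    (Fusion91.le_preimageAlong_imageAlong θ hP)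

theorem Ctx.img_pre {Q : Subgroup Ω'} (hQ : Q ≤ S') : imageAlong θ (preimageAlong θ Q) = Q :=
  Fusion91.imageAlong_preimageAlong θ (h.surj.2.1.symm ▸ hQ)

theorem Ctx.img_le {P : Subgroup Ω} (hP : P ≤ S) : imageAlong θ P ≤ S' := by
  intro y hy
  obtain ⟨x, hx, rfl⟩ := (mem_imageAlong_push hP).1 hy
  exact Fusion91.push_mem h.surj.2.1 (hP hx)

omit h in
theorem pre_mono {Q Q' : Subgroup Ω'} (hle : Q ≤ Q') : preimageAlong θ Q ≤ preimageAlong θ Q' :=
  fun _ hx => mem_preimage_push.2 ⟨(mem_preimage_push.1 hx).1, hle (mem_preimage_push.1 hx).2⟩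

theorem Ctx.img_top : imageAlong θ (preimageAlong θ T') = T' := h.img_pre h.t_le

theorem Ctx.closed : F.StronglyClosed (preimageAlong θ T') := by
  refine stronglyClosed_iff.2 ⟨Fusion91.preimageAlong_le θ T', fun R f hf x hx hxT => ?_⟩
  obtain ⟨g, hg, hge⟩ := Fusion91.exists_push_map h.surj hf
  refine mem_preimage_push.2 ⟨hf.apply_mem hx, ?_⟩
  rw [← hge x hx]
  exact (stronglyClosed_iff.1 h.nData.closed).2 _ _ hg _ (push_mem_image hf.dom_le hx)
    (mem_preimage_push.1 hxT).2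

theorem Ctx.img_le_t {P : Subgroup Ω} (hP : P ≤ preimageAlong θ T') : imageAlong θ P ≤ T' :=
  h.img_top ▸ imageAlong_mono (Fusion91.preimageAlong_le θ T') hP

/-- The map induced on the images. -/
theorem Ctx.exists_img_iso [Finite S] {P P' : Subgroup Ω} {f : Ω → Ω} (hf : IsIso F P P' f) :
    ∃ g, IsIso E (imageAlong θ P) (imageAlong θ P') g ∧ ∀ x ∈ P, g (push θ x) = push θ (f x) := by
  obtain ⟨g, hg, hge⟩ := Fusion91.exists_push_map h.surj hf.1
  refine ⟨g, ⟨hg, Set.ext fun y => ⟨?_, fun hy => ?_⟩⟩, hge⟩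
  · rintro ⟨z, hz, rfl⟩
    obtain ⟨x, hx, rfl⟩ := (mem_imageAlong_push hf.dom_le).1 hz
    rw [hge x hx]
    exact push_mem_image hf.cod_le (hf.mem hx)
  · obtain ⟨w, hw, rfl⟩ := (mem_imageAlong_push hf.cod_le).1 hy
    obtain ⟨x, hx, rfl⟩ := hf.exists_preimage hw
    exact ⟨_, push_mem_image hf.dom_le hx, hge x hx⟩

/-- An isomorphism of the quotient lifts to the preimages. -/
theorem Ctx.exists_lift_iso [Finite S] {P P' : Subgroup Ω} (hP : P ≤ S) (hZP : Z ≤ P) (hP' : P' ≤ S)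
    (hZP' : Z ≤ P') {g : Ω' → Ω'} (hg : IsIso E (imageAlong θ P) (imageAlong θ P') g) :
    ∃ f, IsIso F P P' f ∧ ∀ x ∈ P, push θ (f x) = g (push θ x) := by
  obtain ⟨f, hf, he⟩ := Fusion91.exists_lift_iso h.surj hg
  rw [h.pre_img hP hZP, h.pre_img hP' hZP'] at hf
  rw [h.pre_img hP hZP] at he
  exact ⟨f, hf, he⟩

theorem Ctx.z_le_of_iso {P P' : Subgroup Ω} {f : Ω → Ω} (hf : IsIso F P P' f) (hZ : Z ≤ P) :
    Z ≤ P' := fun z hz => by
  have h1 := hf.mem (hZ hz)
  rwa [h.fix hf.1 (hZ hz) hz] at h1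

theorem Ctx.le_t_of_iso {P P' : Subgroup Ω} {f : Ω → Ω} (hf : IsIso F P P' f)
    (hP : P ≤ preimageAlong θ T') : P' ≤ preimageAlong θ T' := fun y hy => by
  obtain ⟨x, hx, rfl⟩ := hf.exists_preimage hy
  exact (stronglyClosed_iff.1 h.closed).2 _ _ hf.1 x hx (hP hx)

/-- Centricity in `N` is invariant under the maps of `E`. -/
theorem Ctx.centric_transport [Finite S] {Q Q' : Subgroup Ω'} {g : Ω' → Ω'} (hg : IsIso E Q Q' g)
    (hQ : N.IsCentric Q) : N.IsCentric Q' := by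
  haveI := h.finS'
  have hTS := h.t_le
  have hQT' : Q' ≤ T' := fun y hy => by
    obtain ⟨x, hx, rfl⟩ := hg.exists_preimage hy
    exact (stronglyClosed_iff.1 h.nData.closed).2 _ _ hg.1 x hx (hQ.1 hx)
  refine ⟨hQT', fun R hR y hy => ?_⟩
  obtain ⟨b, hb⟩ := isConj_iff.1 hR
  have hgb : IsIso E Q R (b ∘ g) := hg.comp ⟨hb.1.of_isSubsystemOf h.nData.sub, hb.2⟩
  obtain ⟨k, n, hk, hn, hne⟩ := invariant_frattini h.nData.invariant hgb.1 hQ.1
  obtain ⟨Q₀, hQ₀⟩ := hn.exists_image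
  obtain ⟨ki, hki, hkil, hkir⟩ := hk.exists_inv
  have hkR : ∀ x ∈ Q₀, k x ∈ R := fun x hx => by
    obtain ⟨w, hw, rfl⟩ := hQ₀.exists_preimage hx
    rw [← hne w hw]
    exact hgb.mem hw
  have hkiy : ki y ∈ centralizerIn T' Q₀ := by
    refine ⟨hki.mem hy.1, Subgroup.mem_centralizer_iff.2 fun x hx => ?_⟩
    have hxT : x ∈ T' := hQ₀.cod_le hx
    have h1 := Subgroup.mem_centralizer_iff.1 hy.2 (k x) (hkR x hx)
    have h2 := congrArg ki h1
    rwa [hki.1.map_mul (hk.mem hxT) hy.1, hki.1.map_mul hy.1 (hk.mem hxT), hkil x hxT] at h2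
  have h3 := hkR _ (hQ.2 Q₀ hQ₀.isConj hkiy)
  rwa [hkir y hy.1] at h3

/-- `P` lies between `Z` and the preimage of `T'` and its image is centric in `N`. -/
def Mem (θ : S →* Ω') (Z : Subgroup Ω) (N : FusionSystem T') (P : Subgroup Ω) : Prop :=
  Z ≤ P ∧ P ≤ preimageAlong θ T' ∧ N.IsCentric (imageAlong θ P)

omit h in
theorem Mem.le_S {P : Subgroup Ω} (hP : Mem θ Z N P) : P ≤ S :=
  hP.2.1.trans (Fusion91.preimageAlong_le θ T')

theorem Ctx.mem_of_iso [Finite S] {P P' : Subgroup Ω} {f : Ω → Ω} (hf : IsIso F P P' f)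
    (hP : Mem θ Z N P) : Mem θ Z N P' := by
  obtain ⟨g, hg, -⟩ := h.exists_img_iso hf
  exact ⟨h.z_le_of_iso hf hP.1, h.le_t_of_iso hf hP.2.1, h.centric_transport hg hP.2.2⟩

/-- The map `f` on `P` lies over `N`. -/
def Over (F : FusionSystem S) (θ : S →* Ω') (N : FusionSystem T') (P : Subgroup Ω) (f : Ω → Ω) : Prop :=
  IsMap F P f ∧ P ≤ preimageAlong θ T' ∧
    ∃ g, IsMap N (imageAlong θ P) g ∧ ∀ x ∈ P, g (push θ x) = push θ (f x)

omit h in
theorem Over.congr {P : Subgroup Ω} {f f' : Ω → Ω} (hf : Over F θ N P f) (he : Set.EqOn f f' P) :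
    Over F θ N P f' := by
  obtain ⟨h1, h2, g, hg, hge⟩ := hf
  exact ⟨h1.congr he, h2, g, hg, fun x hx => by rw [hge x hx, he hx]⟩

omit h in
theorem Over.comp {P Q : Subgroup Ω} {f f' : Ω → Ω} (hf : Over F θ N P f) (hf' : Over F θ N Q f')
    (hmaps : ∀ x ∈ P, f x ∈ Q) : Over F θ N P (f' ∘ f) := by
  obtain ⟨h1, h2, g, hg, hge⟩ := hf
  obtain ⟨k1, k2, g', hg', hge'⟩ := hf'
  refine ⟨h1.comp k1 hmaps, h2, g' ∘ g, hg.comp hg' fun y hy => ?_, fun x hx => ?_⟩
  · obtain ⟨x, hx, rfl⟩ := (mem_imageAlong_push h1.dom_le).1 hy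
    rw [hge x hx]
    exact push_mem_image k1.dom_le (hmaps x hx)
  · simp only [Function.comp_apply]
    rw [hge x hx, hge' _ (hmaps x hx)]

omit h in
theorem Over.mono {P Q : Subgroup Ω} {f : Ω → Ω} (hf : Over F θ N Q f) (hle : P ≤ Q) :
    Over F θ N P f := by
  obtain ⟨h1, h2, g, hg, hge⟩ := hf
  exact ⟨h1.mono hle, hle.trans h2, g, hg.mono (imageAlong_mono h1.dom_le hle),
    fun x hx => hge x (hle hx)⟩

theorem Over.inv [Finite S] {P Q : Subgroup Ω} {f k : Ω → Ω} (hf : Over F θ N P f)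
    (hi : IsIso F P Q f) (hk : IsIso F Q P k) (hkl : ∀ x ∈ P, k (f x) = x) :
    Over F θ N Q k := by
  obtain ⟨h1, h2, g, hg, hge⟩ := hf
  obtain ⟨W, hW⟩ := hg.exists_image
  obtain ⟨gi, hgi, hgil, -⟩ := hW.exists_inv
  have hQW : imageAlong θ Q ≤ W := fun y hy => by
    obtain ⟨w, hw, rfl⟩ := (mem_imageAlong_push hi.cod_le).1 hy
    obtain ⟨x, hx, rfl⟩ := hi.exists_preimage hw
    rw [← hge x hx]
    exact hW.mem (push_mem_image h1.dom_le hx)
  refine ⟨hk.1, h.le_t_of_iso hi h2, gi, hgi.1.mono hQW, fun y hy => ?_⟩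
  obtain ⟨x, hx, rfl⟩ := hi.exists_preimage hy
  rw [← hge x hx, hgil _ (push_mem_image h1.dom_le hx), hkl x hx]

theorem Ctx.over_conj {P : Subgroup Ω} {t : Ω} (hP : P ≤ preimageAlong θ T')
    (ht : t ∈ preimageAlong θ T') : Over F θ N P fun x => t * x * t⁻¹ := by
  have hTS := Fusion91.preimageAlong_le θ T'
  refine ⟨isMap_conj (hP.trans hTS) (hTS ht), hP, _,
    isMap_conj (h.img_le_t hP) (mem_preimage_push.1 ht).2, fun x hx => ?_⟩
  rw [push_conj (hTS ht) (hTS (hP hx))]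

theorem Ctx.over_id {P : Subgroup Ω} (hP : P ≤ preimageAlong θ T') : Over F θ N P id :=
  ((h.over_conj hP (Subgroup.one_mem _)).congr fun x _ => by simp)

/-- Transport along a map of `F` of the maps lying over `N`. -/
theorem Ctx.over_transport [Finite S] {P P' : Subgroup Ω} {f a : Ω → Ω} (hf : IsIso F P P' f)
    (ha : Over F θ N P a) (haP : ∀ x ∈ P, a x ∈ P) {k : Ω → Ω} (hk : IsMap F P' k)
    (hke : ∀ x ∈ P, k (f x) = f (a x)) : Over F θ N P' k := by
  obtain ⟨-, hPT, g, hg, hge⟩ := ha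
  obtain ⟨e, he, hee⟩ := h.exists_img_iso hf
  have hgQ : ∀ y ∈ imageAlong θ P, g y ∈ imageAlong θ P := fun y hy => by
    obtain ⟨x, hx, rfl⟩ := (mem_imageAlong_push hf.dom_le).1 hy
    rw [hge x hx]
    exact push_mem_image hf.dom_le (haP x hx)
  obtain ⟨χ, hχ, hχe⟩ := h.nData.strongInv (imageAlong θ P) (imageAlong θ P') (imageAlong θ P) g e
    le_rfl (h.img_le_t hPT) hg hgQ he.1 he
  refine ⟨hk, h.le_t_of_iso hf hPT, χ, hχ, fun y hy => ?_⟩
  obtain ⟨x, hx, rfl⟩ := hf.exists_preimage hy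
  rw [← hee x hx, hχe _ (push_mem_image hf.dom_le hx), hge x hx, hee _ (haP x hx), hke x hx]

/-! ### Counting -/

theorem Ctx.img_norm {P : Subgroup Ω} (hP : P ≤ S) (hZ : Z ≤ P) {U : Subgroup Ω'} (hU : U ≤ S')
    {x : Ω} (hx : x ∈ S) :
    x ∈ normalizerIn (preimageAlong θ U) P ↔ push θ x ∈ normalizerIn U (imageAlong θ P) := by
  constructor
  · intro hn
    refine ⟨(mem_preimage_push.1 hn.1).2, Subgroup.mem_normalizer_iff.2 fun y => ⟨fun hy => ?_, fun hy => ?_⟩⟩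
    · obtain ⟨w, hw, rfl⟩ := (mem_imageAlong_push hP).1 hy
      rw [← push_conj hx (hP hw)]
      exact push_mem_image hP (conj_mem_of_mem_normalizer hn.2 hw)
    · obtain ⟨w, hw, hwe⟩ := (mem_imageAlong_push hP).1 hy
      have h1 := conj_mem_of_mem_normalizer ((Subgroup.normalizer (P : Set Ω)).inv_mem hn.2) hw
      have h2 : y = push θ (x⁻¹ * w * x⁻¹⁻¹) := by
        rw [push_conj (S.inv_mem hx) (hP hw), push_inv hx, hwe]
        group
      exact h2 ▸ push_mem_image hP h1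
  · intro hn
    refine ⟨mem_preimage_push.2 ⟨hx, hn.1⟩, ?_⟩
    have h1 := Fusion91.push_mem_normalizer h.surj.2.1 (h.img_le hP) hx hn.2
    rwa [h.pre_img hP hZ] at h1

theorem Ctx.card_pre [Finite S] {Q : Subgroup Ω'} (hQ : Q ≤ S') :
    Nat.card (preimageAlong θ Q) = Nat.card Q * Nat.card Z := by
  let f : preimageAlong θ Q →* Q :=
    { toFun := fun x => ⟨push θ x, (mem_preimage_push.1 x.2).2⟩
      map_one' := Subtype.ext ((h.push_eq_one S.one_mem).2 Z.one_mem)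
      map_mul' := fun x y => Subtype.ext (push_mul (mem_preimage_push.1 x.2).1 (mem_preimage_push.1 y.2).1) }
  have hsurj : Function.Surjective f := fun y => by
    obtain ⟨x, hx, he⟩ := Fusion91.exists_push_eq h.surj.2.1 (hQ y.2)
    exact ⟨⟨x, mem_preimage_push.2 ⟨hx, he ▸ y.2⟩⟩, Subtype.ext he⟩
  rw [Subgroup.card_eq_card_quotient_mul_card_subgroup f.ker,
    Nat.card_congr (QuotientGroup.quotientKerEquivOfSurjective f hsurj).toEquiv]
  congr 1
  refine Nat.card_congr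
    { toFun := fun x => ⟨(x : preimageAlong θ Q),
        (h.push_eq_one (mem_preimage_push.1 x.1.2).1).1 (congrArg Subtype.val x.2)⟩
      invFun := fun z => ⟨⟨z, h.z_le_pre Q z.2⟩, Subtype.ext ((h.push_eq_one (h.zS z.2)).2 z.2)⟩
      left_inv := fun x => rfl
      right_inv := fun z => rfl }

theorem Ctx.card_norm [Finite S] {P : Subgroup Ω} (hP : P ≤ S) (hZ : Z ≤ P) {U : Subgroup Ω'}
    (hU : U ≤ S') : Nat.card (normalizerIn (preimageAlong θ U) P) =
      Nat.card (normalizerIn U (imageAlong θ P)) * Nat.card Z := by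
  rw [← h.card_pre ((normalizerIn_le U _).trans hU)]
  congr 2
  ext x
  constructor
  · intro hx
    have hxS : x ∈ S := (mem_preimage_push.1 hx.1).1
    exact mem_preimage_push.2 ⟨hxS, (h.img_norm hP hZ hU hxS).1 hx⟩
  · intro hx
    exact (h.img_norm hP hZ hU (mem_preimage_push.1 hx).1).2 (mem_preimage_push.1 hx).2

theorem Ctx.pre_top : preimageAlong θ S' = S :=
  le_antisymm (Fusion91.preimageAlong_le θ S') fun _ hx =>
    mem_preimage_push.2 ⟨hx, Fusion91.push_mem h.surj.2.1 hx⟩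

/-- The image of a fully normalized subgroup is fully normalized. -/
theorem Ctx.img_fullyNormalized [Finite S] {P : Subgroup Ω} (hP : F.IsFullyNormalized P) (hZ : Z ≤ P) :
    E.IsFullyNormalized (imageAlong θ P) := by
  refine ⟨h.img_le hP.1, fun Q hQ => ?_⟩
  obtain ⟨g, hg⟩ := isConj_iff.1 hQ
  have hQS := hg.cod_le
  rw [← h.img_pre hQS] at hg ⊢
  obtain ⟨f, hf, -⟩ := h.exists_lift_iso hP.1 hZ (Fusion91.preimageAlong_le θ Q) (h.z_le_pre Q) hg
  have h1 := hP.2 _ hf.isConj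
  have h2 := h.card_norm hP.1 hZ (le_refl S')
  have h3 := h.card_norm (Fusion91.preimageAlong_le θ Q) (h.z_le_pre Q) (le_refl S')
  rw [h.pre_top] at h2 h3
  rw [h2, h3] at h1
  haveI := finite_of_le h.zS
  exact Nat.le_of_mul_le_mul_right h1 Nat.card_pos

theorem Ctx.img_fullyNormalized_N [Finite S] [Fact p.Prime] {P : Subgroup Ω} (hP : F.IsFullyNormalized P)
    (hZ : Z ≤ P) (hT : P ≤ preimageAlong θ T') : N.IsFullyNormalized (imageAlong θ P) :=
  haveI := h.finS'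
  h.nData.fullyNormalized_e (h.img_fullyNormalized hP hZ) (h.img_le_t hT)

end Cfsg.Agent.Fusion.CentralLift
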