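import Cfsg.Agent.Lib.Fusion.CentralLift.Aut
import Cfsg.Agent.Lib.Fusion.SubSat
import Cfsg.Agent.Lib.Fusion.Alperin
import Cfsg.Agent.Lib.Fusion.Normal

/-!
# The generated system over the preimage: lifting of maps and restriction of automorphisms
-/

set_option autoImplicit false
set_option linter.style.haveILetI false

namespace Cfsg.Agent.Fusion.CentralLift

open Cfsg Cfsg.Agent.Fusion
open Cfsg.FusionSystem (normalizerIn centralizerIn imageAlong preimageAlong)
open Cfsg.Agent.Fusion91 (push push_of_mem push_mul push_inv push_conj mem_preimage_push mem_imageAlong_push)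
open Cfsg.Agent.Fusion.NormalLift (exists_pow_coprime)

variable {Ω : Type*} [Group Ω] {S : Subgroup Ω} {Ω' : Type*} [Group Ω'] {S' T' : Subgroup Ω'}
  {F : FusionSystem S} {E : FusionSystem S'} {N : FusionSystem T'} {θ : S →* Ω'}
  {Z : Subgroup Ω} {p : ℕ}

/-- The maps generated by the lifted automorphism groups. -/
inductive LMap (F : FusionSystem S) (θ : S →* Ω') (Z : Subgroup Ω) (N : FusionSystem T') (p : ℕ) :
    Subgroup Ω → (Ω → Ω) → Prop
  | gen {P Q : Subgroup Ω} {α : MulAut Q} : Mem θ Z N Q → α ∈ baseAut F θ N p Q → P ≤ Q →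
      LMap F θ Z N p P (autFun α)
  | congr {P : Subgroup Ω} {f g : Ω → Ω} : LMap F θ Z N p P f → Set.EqOn f g P → LMap F θ Z N p P g
  | comp {P Q : Subgroup Ω} {f g : Ω → Ω} : LMap F θ Z N p P f → LMap F θ Z N p Q g →
      (∀ x ∈ P, f x ∈ Q) → LMap F θ Z N p P (g ∘ f)

theorem LMap.mono {P Q : Subgroup Ω} {f : Ω → Ω} (hf : LMap F θ Z N p Q f) (hle : P ≤ Q) :
    LMap F θ Z N p P f := by
  induction hf generalizing P with
  | gen hM hα hQ => exact .gen hM hα (hle.trans hQ)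
  | congr _ he ih => exact .congr (ih hle) (he.mono hle)
  | comp _ h2 hmaps ih _ => exact .comp (ih hle) h2 fun x hx => hmaps x (hle hx)

variable (h : Ctx F Z θ E N p)
include h

theorem Ctx.lmap_over [Finite S] {P : Subgroup Ω} {f : Ω → Ω} (hf : LMap F θ Z N p P f) :
    Over F θ N P f := by
  induction hf with
  | gen hM hα hQ => exact ((h.mem_overAut hM.2.1).1 (baseAut_le_over hα)).mono hQ
  | congr _ he ih => exact ih.congr he
  | comp _ _ hmaps ih ih' => exact ih.comp ih' hmaps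

theorem Ctx.mem_top [Finite S] : Mem θ Z N (preimageAlong θ T') := by
  haveI := h.finS'
  haveI := finite_of_le h.t_le
  exact ⟨h.z_le_pre T', le_rfl, by rw [h.img_top]; exact isCentric_self⟩

theorem Ctx.lmap_conj [Finite S] {P : Subgroup Ω} {t : Ω} (hP : P ≤ preimageAlong θ T')
    (ht : t ∈ preimageAlong θ T') : LMap F θ Z N p P fun x => t * x * t⁻¹ := by
  have htN : t ∈ normalizerIn (preimageAlong θ T') (preimageAlong θ T') :=
    le_normalizerIn le_rfl ht
  have hm : conjAutHom (preimageAlong θ T') (preimageAlong θ T') ⟨t, htN⟩ ∈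
      baseAut F θ N p (preimageAlong θ T') := by
    refine h.induced_le_base le_rfl ?_
    rw [← range_conjAutHom]; exact ⟨_, rfl⟩
  exact (LMap.gen h.mem_top hm hP).congr fun x hx => by rw [autFun_of_mem _ (hP hx)]; rfl

theorem Ctx.lmap_id [Finite S] {P : Subgroup Ω} (hP : P ≤ preimageAlong θ T') : LMap F θ Z N p P id :=
  (h.lmap_conj hP (Subgroup.one_mem _)).congr fun x _ => by simp

theorem Ctx.lmap_inv [Finite S] {P : Subgroup Ω} {f : Ω → Ω} (hf : LMap F θ Z N p P f) :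
    ∃ (Q : Subgroup Ω) (k : Ω → Ω), IsIso F P Q f ∧ LMap F θ Z N p Q k ∧ ∀ x ∈ P, k (f x) = x := by
  induction hf with
  | @gen P Q α hM hα hQ =>
    have hi := (mem_autGroup hM.le_S).1 (h.baseAut_le hM.2.1 hα)
    obtain ⟨P', hP'Q, hP'⟩ := hi.restrict hQ
    refine ⟨P', autFun α⁻¹, hP', .gen hM (inv_mem hα) hP'Q, fun x hx => ?_⟩
    rw [← Function.comp_apply (f := autFun α⁻¹), ← autFun_mul α⁻¹ α (hQ hx), inv_mul_cancel,
      autFun_one (hQ hx), id]
  | congr _ he ih =>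
    obtain ⟨Q, k, hi, hk, hkl⟩ := ih
    exact ⟨Q, k, hi.congr he, hk, fun x hx => he hx ▸ hkl x hx⟩
  | @comp P Q f g h1 h2 hmaps ih ih' =>
    obtain ⟨P₁, k, hi, hk, hkl⟩ := ih
    obtain ⟨Q₁, k', hi', hk', hkl'⟩ := ih'
    have hPQ : P₁ ≤ Q := fun y hy => by
      obtain ⟨x, hx, rfl⟩ := hi.exists_preimage hy
      exact hmaps x hx
    obtain ⟨R, hR, hgR⟩ := hi'.restrict hPQ
    refine ⟨R, k ∘ k', hi.comp hgR, .comp (hk'.mono hR) hk fun y hy => ?_, fun x hx => ?_⟩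
    · obtain ⟨x, hx, rfl⟩ := hgR.exists_preimage hy
      rw [hkl' x (hPQ hx)]
      exact hx
    · simp only [Function.comp_apply]
      rw [hkl' _ (hPQ (hi.mem hx)), hkl x hx]

/-- Upward closure. -/
theorem Ctx.mem_mono [Finite S] {P P' : Subgroup Ω} (hP : Mem θ Z N P) (hle : P ≤ P')
    (hP' : P' ≤ preimageAlong θ T') : Mem θ Z N P' := by
  refine ⟨hP.1.trans hle, hP', h.img_le_t hP', fun Q hQ y hy => ?_⟩
  obtain ⟨g, hg⟩ := isConj_iff.1 hQ
  have hmono := imageAlong_mono (θ := θ) (hP'.trans (Fusion91.preimageAlong_le θ T')) hle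
  obtain ⟨R, hRQ, hR⟩ := hg.restrict hmono
  exact hRQ (hP.2.2.2 R hR.isConj ⟨hy.1,
    Subgroup.mem_centralizer_iff.2 fun x hx => Subgroup.mem_centralizer_iff.1 hy.2 x (hRQ hx)⟩)

variable [Finite S] [Fact p.Prime]

theorem Ctx.over_le_sup_all {P : Subgroup Ω} (hP : Mem θ Z N P) :
    overAut F θ N P ≤ baseAut F θ N p P ⊔ kerAut F Z P := by
  obtain ⟨R, hPR, hR⟩ := exists_fullyNormalized (F := F) hP.le_S
  obtain ⟨f, hf⟩ := isConj_iff.1 hPR
  have hRM := h.mem_of_iso hf hP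
  obtain ⟨k, hk, hkl, -⟩ := hf.exists_inv
  intro α hα
  have hα' := h.over_le_sup hR hRM (h.overAut_transport hf hP.2.1 hα)
  have hback : ∀ β : MulAut R, β ∈ baseAut F θ N p R ⊔ kerAut F Z R →
      MulAut.congr hk.equiv β ∈ baseAut F θ N p P ⊔ kerAut F Z P := by
    intro β hβ
    have hmap : (baseAut F θ N p R ⊔ kerAut F Z R).map (MulAut.congr hk.equiv).toMonoidHom ≤
        baseAut F θ N p P ⊔ kerAut F Z P := by
      rw [Subgroup.map_sup]
      refine sup_le_sup ?_ ?_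
      · rintro _ ⟨b, hb, rfl⟩
        exact h.baseAut_transport hk hRM.2.1 hb
      · rintro _ ⟨b, hb, rfl⟩
        have hmem : MulAut.congr hk.equiv b ∈ F.autGroup P := by
          rw [← autGroup_map_congr hk]; exact ⟨b, hb.2, rfl⟩
        refine (h.mem_kerAut hP.le_S hmem).2 fun x hx => ?_
        obtain ⟨y, hy, rfl⟩ := hk.exists_preimage hx
        have h1 := (h.mem_kerAut hR.1 hb.2).1 hb y hy
        rw [autFun_of_mem b hy] at h1
        obtain ⟨g, -, hge⟩ := h.exists_img_iso hk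
        rw [autFun_of_mem _ (hk.mem hy)]
        show push θ ((MulAut.congr hk.equiv b) (hk.equiv ⟨y, hy⟩) : Ω) = _
        rw [congr_apply_equiv, ← hge _ (b ⟨y, hy⟩).2, h1, hge y hy]
    exact hmap ⟨β, hβ, rfl⟩
  have h2 := hback _ hα'
  have e : MulAut.congr hk.equiv (MulAut.congr hf.equiv α) = α := by
    refine MulEquiv.ext fun x => Subtype.ext ?_
    obtain ⟨y, rfl⟩ := hk.equiv.surjective x
    rw [congr_apply_equiv]
    obtain ⟨w, rfl⟩ := hf.equiv.surjective y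
    rw [congr_apply_equiv, hkl _ (α w).2]
    congr 2
    exact Subtype.ext (by rw [hk.equiv_apply, hf.equiv_apply, hkl _ w.2])
  rwa [e] at h2

/-- Automorphisms of centric images lift to the lifted groups. -/
theorem Ctx.lift_aut {P : Subgroup Ω} (hP : Mem θ Z N P) {n : Ω' → Ω'}
    (hn : IsIso N (imageAlong θ P) (imageAlong θ P) n) :
    ∃ β ∈ baseAut F θ N p P, ∀ x ∈ P, push θ (autFun β x) = n (push θ x) := by
  have hPS := hP.le_S
  obtain ⟨f, hf, hfe⟩ := h.exists_lift_iso hPS hP.1 hPS hP.1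
    (⟨hn.1.of_isSubsystemOf h.nData.sub, hn.2⟩ : IsIso E _ _ n)
  obtain ⟨α, hα, hαe⟩ := hf.exists_aut
  have hαo : α ∈ overAut F θ N P := Subgroup.subset_closure
    ⟨((mem_autGroup hPS).1 hα).1, hP.2.1, n, hn.1, fun x hx => by rw [hαe hx, hfe x hx]⟩
  have hBA := h.baseAut_le (p := p) hP.2.1
  have hKA : kerAut F Z P ≤ F.autGroup P := inf_le_right
  haveI : ((kerAut F Z P).subgroupOf (F.autGroup P)).Normal :=
    ⟨fun a ha b => h.kerAut_conj hPS ha b.2⟩
  have hsup : (⟨α, hα⟩ : F.autGroup P) ∈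
      (baseAut F θ N p P).subgroupOf (F.autGroup P) ⊔ (kerAut F Z P).subgroupOf (F.autGroup P) := by
    rw [← Subgroup.subgroupOf_sup hBA hKA]
    exact h.over_le_sup_all hP hαo
  obtain ⟨b, hb, k, hk, hbk⟩ := Subgroup.mem_sup_of_normal_right.1 hsup
  refine ⟨b, hb, fun x hx => ?_⟩
  have hb' := (mem_autGroup hPS).1 b.2
  have hk' := (mem_autGroup hPS).1 k.2
  obtain ⟨g, -, hge⟩ := h.exists_img_iso hb'
  rw [← hfe x hx, ← hαe hx, show (α : MulAut P) = (b : MulAut P) * k from (congrArg Subtype.val hbk).symm,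
    autFun_mul _ _ hx, Function.comp_apply, ← hge _ (hk'.mem hx), (h.mem_kerAut hPS k.2).1 hk x hx,
    hge x hx]

/-- Every map of `N` has a generated lift on the preimage. -/
theorem Ctx.lift_map {Q : Subgroup Ω'} {n : Ω' → Ω'} (hn : IsMap N Q n) :
    ∃ f, LMap F θ Z N p (preimageAlong θ Q) f ∧
      ∀ x ∈ preimageAlong θ Q, push θ (f x) = n (push θ x) := by
  haveI := h.finS'
  haveI := finite_of_le h.t_le
  refine alperin_induction_cr h.t_p h.nData.eSat (fun Q n => ∃ f, LMap F θ Z N p (preimageAlong θ Q) f ∧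
      ∀ x ∈ preimageAlong θ Q, push θ (f x) = n (push θ x)) ?_ ?_ ?_ ?_ Q n hn
  · rintro P f g ⟨f₀, h1, h2⟩ he
    exact ⟨f₀, h1, fun x hx => (h2 x hx).trans (he (mem_preimage_push.1 hx).2)⟩
  · rintro P R f g hf hg ⟨f₀, h1, h2⟩ ⟨g₀, k1, k2⟩
    have hmaps : ∀ x ∈ preimageAlong θ P, f₀ x ∈ preimageAlong θ R := fun x hx =>
      mem_preimage_push.2 ⟨(h.lmap_over h1).1.apply_mem hx, by
        rw [h2 x hx]; exact hf.mem (mem_preimage_push.1 hx).2⟩
    refine ⟨g₀ ∘ f₀, .comp h1 k1 hmaps, fun x hx => ?_⟩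
    simp only [Function.comp_apply]
    rw [k2 _ (hmaps x hx), h2 x hx]
  · rintro P R f hf hle ⟨f₀, h1, h2⟩
    exact ⟨f₀, h1.mono (pre_mono hle), fun x hx => h2 x (pre_mono hle hx)⟩
  · intro R hRc hRr hRn f hf
    have hRS' : R ≤ S' := hRc.1.trans h.t_le
    have hM : Mem θ Z N (preimageAlong θ R) :=
      ⟨h.z_le_pre R, pre_mono hRc.1, by rw [h.img_pre hRS']; exact hRc⟩
    have hf' : IsIso N (imageAlong θ (preimageAlong θ R)) (imageAlong θ (preimageAlong θ R)) f := by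
      rw [h.img_pre hRS']; exact hf
    obtain ⟨β, hβ, hβe⟩ := h.lift_aut hM hf'
    exact ⟨autFun β, .gen hM hβ le_rfl, hβe⟩

/-- A `p`-element of the lifted group is transported to a conjugation by `T`. -/
theorem Ctx.innerLike_of_pElement {W : Subgroup Ω} (hW : Mem θ Z N W) {α : MulAut W}
    (hα : α ∈ baseAut F θ N p W) (hord : ∃ k, orderOf α = p ^ k) :
    InnerLike F θ T' W α := by
  obtain ⟨R, hWR, hR⟩ := exists_fullyNormalized (F := F) hW.le_S
  obtain ⟨f, hf⟩ := isConj_iff.1 hWR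
  have hRM := h.mem_of_iso hf hW
  have hβ := h.baseAut_transport (p := p) hf hW.2.1 hα
  haveI := finite_of_le hR.1
  haveI := finite_mulAut R
  obtain ⟨P₀, hP₀⟩ := (fullyAutomized_of_fullyNormalized h.pgroup h.sat hR).2
  set b : F.autGroup R := ⟨_, h.baseAut_le hRM.2.1 hβ⟩ with hb
  obtain ⟨Q, hQ⟩ : ∃ Q : Sylow p (F.autGroup R), b ∈ (Q : Subgroup _) := by
    obtain ⟨k, hk⟩ := hord
    have hp : IsPGroup p (Subgroup.zpowers b) := IsPGroup.of_card (by
      rw [Nat.card_zpowers, ← Subgroup.orderOf_coe, hb]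
      exact (MulEquiv.orderOf_eq (MulAut.congr hf.equiv) α).trans hk)
    obtain ⟨Q, hQ⟩ := hp.exists_le_sylow
    exact ⟨Q, hQ (Subgroup.mem_zpowers b)⟩
  obtain ⟨c, hc⟩ := MulAction.exists_smul_eq (F.autGroup R) Q P₀
  have h1 : c * b * c⁻¹ ∈ (P₀ : Subgroup (F.autGroup R)) := by
    rw [← hc]; exact ⟨b, hQ, rfl⟩
  rw [hP₀, Subgroup.mem_subgroupOf] at h1
  have h2 := h.base_inter hR hRM (h.baseAut_conj hRM.2.1 hβ c.2) h1
  obtain ⟨t, ht, htx⟩ := mem_autInducedBy.1 h2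
  have hci := (mem_autGroup hR.1).1 c.2
  refine ⟨R, autFun (c : MulAut R) ∘ f, t, hf.comp hci, ht, fun x hx => ?_⟩
  simp only [Function.comp_apply]
  rw [autFun_of_mem α hx, autFun_of_mem _ (hf.mem (α ⟨x, hx⟩).2), autFun_of_mem _ (hf.mem hx),
    ← htx ((c : MulAut R) ⟨f x, hf.mem hx⟩), MulAut.mul_apply, MulAut.mul_apply,
    show (c : MulAut R)⁻¹ ((c : MulAut R) ⟨f x, hf.mem hx⟩) = ⟨f x, hf.mem hx⟩ from
      (c : MulAut R).symm_apply_apply _]
  congr 2
  exact Subtype.ext (congr_apply_equiv hf α ⟨x, hx⟩).symm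

/-- Restriction of the lifted groups. -/
theorem Ctx.base_restrict {W P : Subgroup Ω} (hW : Mem θ Z N W) (hP : Mem θ Z N P) (hle : P ≤ W)
    {α : MulAut W} (hα : α ∈ baseAut F θ N p W) (hst : ∀ x ∈ P, autFun α x ∈ P) :
    ∃ β ∈ baseAut F θ N p P, Set.EqOn (autFun β) (autFun α) P := by
  haveI := finite_of_le hW.le_S
  haveI := finite_mulAut W
  haveI := finite_of_le hP.le_S
  haveI := finite_mulAut P
  -- the stabilizer of `P`
  let St : Subgroup (MulAut W) :=
    { carrier := {γ | γ ∈ baseAut F θ N p W ∧ autFun γ '' (P : Set Ω) = (P : Set Ω)}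
      one_mem' := ⟨one_mem _, (Set.image_congr fun x hx => autFun_one (hle hx)).trans (Set.image_id' _)⟩
      mul_mem' := fun {a b} ha hb => ⟨mul_mem ha.1 hb.1,
        (Set.image_congr fun x hx => autFun_mul a b (hle hx)).trans (by
          rw [Set.image_comp, hb.2, ha.2])⟩
      inv_mem' := fun {a} ha => ⟨inv_mem ha.1, by
        conv_lhs => rw [← ha.2, Set.image_image]
        refine (Set.image_congr fun x hx => ?_).trans (Set.image_id' _)
        rw [← Function.comp_apply (f := autFun a⁻¹), ← autFun_mul a⁻¹ a (hle hx), inv_mul_cancel,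
          autFun_one (hle hx), id]⟩ }
  have hiso : ∀ γ : St, IsIso F P P (autFun (γ : MulAut W)) := fun γ =>
    ⟨((mem_autGroup hW.le_S).1 (h.baseAut_le hW.2.1 γ.2.1)).1.mono hle, γ.2.2⟩
  let ρ : St →* MulAut P := MonoidHom.mk' (fun γ => (hiso γ).equiv) fun a b =>
    MulEquiv.ext fun x => Subtype.ext (autFun_mul _ _ (hle x.2))
  have hρ : ∀ γ : St, Set.EqOn (autFun (ρ γ)) (autFun (γ : MulAut W)) P := fun γ x hx => by
    rw [autFun_of_mem _ hx]; rfl
  have hover : ∀ γ : St, ρ γ ∈ overAut F θ N P := fun γ => Subgroup.subset_closure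
    ((((h.mem_overAut hW.2.1).1 (baseAut_le_over γ.2.1)).mono hle).congr (hρ γ).symm)
  have key : ∀ γ : St, ρ γ ∈ baseAut F θ N p P := by
    intro γ
    obtain ⟨k, n, hn, hkn⟩ :=
      Nat.exists_eq_pow_mul_and_not_dvd (orderOf_pos γ).ne' p (Fact.out : p.Prime).ne_one
    have hcop : Nat.Coprime (p ^ k) n :=
      (((Fact.out : p.Prime).coprime_iff_not_dvd).2 hn).pow_left k
    -- the `p'`-part and the `p`-part
    have h1 : ∀ j : ℕ, ρ (γ ^ (p ^ k * j)) ∈ baseAut F θ N p P := fun j => by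
      refine Subgroup.subset_closure ⟨hover _, Or.inl ?_⟩
      refine Nat.Coprime.coprime_dvd_left (orderOf_map_dvd ρ _) ?_
      rw [pow_mul]
      refine Nat.Coprime.coprime_dvd_left (orderOf_pow_dvd _) ?_
      rw [orderOf_pow, hkn, Nat.gcd_eq_right (dvd_mul_right _ _),
        Nat.mul_div_cancel_left _ (pow_pos (Fact.out : p.Prime).pos k)]
      exact (((Fact.out : p.Prime).coprime_iff_not_dvd).2 hn).symm
    have h2 : ρ (γ ^ n) ∈ baseAut F θ N p P := by
      refine Subgroup.subset_closure ⟨hover _, Or.inr ?_⟩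
      have hγn : (γ ^ n : St).1 ∈ baseAut F θ N p W := (γ ^ n).2.1
      obtain ⟨R, f, t, hf, ht, he⟩ := h.innerLike_of_pElement hW hγn (by
        rw [Subgroup.orderOf_coe]
        have : orderOf (γ ^ n) ∣ p ^ k := orderOf_dvd_of_pow_eq_one (by
          rw [← pow_mul, mul_comm, ← hkn, pow_orderOf_eq_one])
        obtain ⟨i, -, hi⟩ := (Nat.dvd_prime_pow (Fact.out : p.Prime)).1 this
        exact ⟨i, hi⟩)
      obtain ⟨R', -, hR'⟩ := hf.restrict hle
      exact ⟨R', f, t, hR', ht, fun x hx => by rw [hρ _ hx, he x (hle hx)]⟩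
    have hb : γ = (γ ^ (p ^ k * 1)) ^ Nat.gcdA (p ^ k) n * (γ ^ n) ^ Nat.gcdB (p ^ k) n := by
      rw [mul_one, ← zpow_natCast γ (p ^ k), ← zpow_natCast γ n, ← zpow_mul, ← zpow_mul, ← zpow_add,
        ← Nat.gcd_eq_gcd_ab, hcop.gcd_eq_one]
      simp
    rw [hb, map_mul, map_zpow, map_zpow]
    exact mul_mem (zpow_mem (h1 1) _) (zpow_mem h2 _)
  have hαSt : α ∈ St := ⟨hα, Set.Subset.antisymm (fun y ⟨x, hx, hy⟩ => hy ▸ hst x hx) fun y hy =>
    surjOn_of_card_le hP.le_S (((mem_autGroup hW.le_S).1 (h.baseAut_le hW.2.1 hα)).1.injOn.mono hle)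
      hst le_rfl y hy⟩
  exact ⟨ρ ⟨α, hαSt⟩, key _, hρ _⟩

end Cfsg.Agent.Fusion.CentralLift
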