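import Cfsg.Agent.Lib.Fusion.CentralLift.Pure
import Cfsg.Agent.Lib.Fusion.Invariant
import Cfsg.Agent.Lib.Fusion.SatCriterion

/-!
# Normal subsystems of a central quotient lift to normal subsystems
-/

set_option autoImplicit false
set_option linter.style.haveILetI false

namespace Cfsg.Agent.Fusion.CentralLift

open Cfsg Cfsg.Agent.Fusion
open Cfsg.FusionSystem (normalizerIn centralizerIn imageAlong preimageAlong)
open Cfsg.Agent.Fusion91 (push push_of_mem push_mul push_inv push_conj mem_preimage_push mem_imageAlong_push)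
open Cfsg.Agent.Fusion.NormalLift (isIso_of_mapsTo exists_pow_coprime)

variable {Ω : Type*} [Group Ω] {S : Subgroup Ω} {Ω' : Type*} [Group Ω'] {S' T' : Subgroup Ω'}
  {F : FusionSystem S} {E : FusionSystem S'} {N : FusionSystem T'} {θ : S →* Ω'}
  {Z : Subgroup Ω} {p : ℕ}

variable (h : Ctx F Z θ E N p)
include h
variable [Finite S] [Fact p.Prime]

/-- The lift, a system over the preimage. -/
noncomputable def Ctx.lift : FusionSystem (preimageAlong θ T') :=
  mkSub F (preimageAlong θ T') (LMap F θ Z N p)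
    (fun {_ _ _} hf he => hf.congr he)
    (fun {P f} hf => ⟨(h.lmap_over hf).1, (h.lmap_over hf).2.1, fun x hx =>
      (stronglyClosed_iff.1 h.closed).2 _ _ (h.lmap_over hf).1 x hx ((h.lmap_over hf).2.1 hx)⟩)
    (fun {P g} hP hg => h.lmap_conj hP hg)
    (fun {P Q f g} hf hg hmaps => .comp hf hg hmaps)
    (fun {P Q f g} hf hi hg hgl => by
      obtain ⟨Q', k, hQ', hk, hkl⟩ := h.lmap_inv hf
      obtain rfl := hQ'.cod_unique hi
      refine hk.congr fun y hy => ?_
      obtain ⟨x, hx, rfl⟩ := hQ'.exists_preimage hy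
      rw [hkl x hx, hgl x hx])

theorem Ctx.isMap_lift {P : Subgroup Ω} {f : Ω → Ω} : IsMap h.lift P f ↔ LMap F θ Z N p P f :=
  isMap_mkSub

theorem Ctx.lift_sub : h.lift.IsSubsystemOf F := fun _ =>
  hom_subset_of_isMap fun _ hf => (h.lmap_over (h.isMap_lift.1 hf)).1

theorem Ctx.mem_autGroup_lift {R : Subgroup Ω} (hR : Mem θ Z N R) {α : MulAut R} :
    α ∈ h.lift.autGroup R ↔ α ∈ baseAut F θ N p R := by
  constructor
  · intro hα
    haveI := finite_of_le hR.le_S
    have h1 := (mem_autGroup hR.2.1).1 hα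
    obtain ⟨β, hβ, hβe⟩ := h.known 0 R _ hR Nat.card_pos (h.isMap_lift.1 h1.1) fun x hx => h1.mem hx
    have e : β = α := MulEquiv.ext fun x => Subtype.ext (by
      rw [← autFun_coe β, hβe x.2, autFun_coe])
    exact e ▸ hβ
  · intro hα
    exact autGroup_mem_of_isMap (h.isMap_lift.2 (.gen hR hα le_rfl))

omit h in
theorem centralizerIn_transport_le {T : Subgroup Ω} {R R₁ : Subgroup Ω} {φ : Ω → Ω} (hφ : IsIso F R R₁ φ)
    (hR₁T : R₁ ≤ T) (hTS : T ≤ S) (hc : centralizerIn T R ≤ R) :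
    Nat.card (centralizerIn T R) ≤ Nat.card (centralizerIn T R₁) := by
  refine card_le_of_injOn ((centralizerIn_le _ _).trans hTS) (hφ.1.injOn.mono hc) fun x hx => ?_
  refine ⟨hR₁T (hφ.mem (hc hx)), Subgroup.mem_centralizer_iff.2 fun y hy => ?_⟩
  obtain ⟨w, hw, rfl⟩ := hφ.exists_preimage hy
  rw [← hφ.1.map_mul hw (hc hx), ← hφ.1.map_mul (hc hx) hw, Subgroup.mem_centralizer_iff.1 hx.2 w hw]

theorem Ctx.centralizer_le {R : Subgroup Ω} (hR : Mem θ Z N R) :
    centralizerIn (preimageAlong θ T') R ≤ R := by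
  intro x hx
  obtain ⟨hxS, hxT⟩ := mem_preimage_push.1 hx.1
  refine h.mem_of_push hR.le_S hR.1 hxS (hR.2.2.2 _ (isConj_refl hR.2.2.1) ⟨hxT,
    Subgroup.mem_centralizer_iff.2 fun y hy => ?_⟩)
  obtain ⟨w, hw, rfl⟩ := (mem_imageAlong_push hR.le_S).1 hy
  rw [← push_mul (hR.le_S hw) hxS, ← push_mul hxS (hR.le_S hw), Subgroup.mem_centralizer_iff.1 hx.2 w hw]

/-- At a member fully normalized in `N`, `Aut_T` is a Sylow subgroup of the lifted group. -/
theorem Ctx.card_le_normalized {R : Subgroup Ω} (hR : Mem θ Z N R)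
    (hRn : N.IsFullyNormalized (imageAlong θ R)) {Y : Subgroup (MulAut R)}
    (hY : Y ≤ baseAut F θ N p R) (hYp : IsPGroup p Y) :
    Nat.card Y ≤ Nat.card (autInducedBy (preimageAlong θ T') R) := by
  haveI := h.finS'
  have hTS := Fusion91.preimageAlong_le θ T'
  haveI := finite_of_le hTS
  haveI := finite_of_le h.t_le
  obtain ⟨R₁, hc, hR₁⟩ := exists_fullyNormalized (F := F) hR.le_S
  obtain ⟨φ, hφ⟩ := isConj_iff.1 hc
  have hR₁M := h.mem_of_iso hφ hR
  haveI := finite_of_le hR₁.1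
  haveI := finite_mulAut R₁
  haveI := finite_of_le hR.le_S
  haveI := finite_mulAut R
  refine le_trans ?_ (le_trans (h.card_le_induced hR₁ hR₁M
    (Y := Y.map (MulAut.congr hφ.equiv).toMonoidHom) ?_ (hYp.map _)) ?_)
  · exact (Subgroup.card_map_of_injective (MulAut.congr hφ.equiv).injective).ge
  · rintro _ ⟨y, hy, rfl⟩
    exact h.baseAut_transport hφ hR.2.1 (hY hy)
  · -- compare the normalizers
    obtain ⟨e, he, -⟩ := h.exists_img_iso hφ
    obtain ⟨k, n, hk, hn, hne⟩ := invariant_frattini h.nData.invariant he.1 hR.2.2.1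
    obtain ⟨Q, hQ⟩ := hn.exists_image
    obtain ⟨ki, hki, hkil, -⟩ := hk.exists_inv
    have h1 : Nat.card (normalizerIn T' (imageAlong θ R₁)) ≤ Nat.card (normalizerIn T' (imageAlong θ R)) := by
      refine le_trans ?_ (hRn.2 Q hQ.isConj)
      refine card_le_of_injOn ((normalizerIn_le _ _).trans h.t_le) (hki.1.injOn.mono (normalizerIn_le _ _))
        fun x hx => ⟨hki.mem hx.1, (map_mem_normalizer (Q := Q) hki.1 hR₁M.2.2.1 ?_ hx.1 hx.2).2⟩
      rw [← he.2, ← hQ.2, ← Set.image_comp]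
      refine Set.image_congr fun y hy => ?_
      rw [Function.comp_apply, hne y hy, hkil _ (hn.apply_mem hy)]
    have h2 := card_autInducedBy_mul (preimageAlong θ T') R₁
    have h3 := card_autInducedBy_mul (preimageAlong θ T') R
    rw [h.card_norm hR₁.1 hR₁M.1 h.t_le] at h2
    rw [h.card_norm hR.le_S hR.1 h.t_le] at h3
    have h4 := centralizerIn_transport_le hφ hR₁M.2.1 hTS (h.centralizer_le hR)
    haveI : Finite (centralizerIn (preimageAlong θ T') R) := finite_of_le (centralizerIn_le _ _)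
    refine Nat.le_of_mul_le_mul_right (c := Nat.card (centralizerIn (preimageAlong θ T') R)) ?_ Nat.card_pos
    calc _ ≤ Nat.card (autInducedBy (preimageAlong θ T') R₁) * Nat.card (centralizerIn (preimageAlong θ T') R₁) :=
          Nat.mul_le_mul_left _ h4
      _ = Nat.card (normalizerIn T' (imageAlong θ R₁)) * Nat.card Z := h2
      _ ≤ Nat.card (normalizerIn T' (imageAlong θ R)) * Nat.card Z := Nat.mul_le_mul_right _ h1
      _ = _ := h3.symm

theorem Ctx.lift_isSaturated : h.lift.IsSaturated p := by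
  haveI := h.finS'
  haveI := finite_of_le h.t_le
  have hTS := Fusion91.preimageAlong_le θ T'
  haveI := finite_of_le hTS
  have hLF : ∀ {P Q : Subgroup Ω} {f : Ω → Ω}, IsIso h.lift P Q f → IsIso F P Q f := fun hf =>
    ⟨hf.1.of_isSubsystemOf h.lift_sub, hf.2⟩
  refine SatCrit.isSaturated_of_criterion (h.pgroup.to_le hTS) (ℋ := {P | Mem θ Z N P})
    (fun P hP => hP.2.1) (fun P hP Q hQ => ?_) (fun P hP => ?_) (fun E₁ hE₁ => ?_) (fun P hP hPH => ?_)
  · obtain ⟨f, hf⟩ := isConj_iff.1 hQ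
    exact h.mem_of_iso (hLF hf) hP
  · obtain ⟨R', hc, hR'n⟩ := exists_fullyNormalized (F := N) hP.2.2.1
    set R := preimageAlong θ R' with hRd
    have hRimg : imageAlong θ R = R' := h.img_pre (hR'n.1.trans h.t_le)
    obtain ⟨v, hv⟩ := isConj_iff.1 hc
    have hR : Mem θ Z N R := ⟨h.z_le_pre R', pre_mono hR'n.1, by
      rw [hRimg]; exact h.centric_transport ⟨hv.1.of_isSubsystemOf h.nData.sub, hv.2⟩ hP.2.2⟩
    have hRn : N.IsFullyNormalized (imageAlong θ R) := hRimg.symm ▸ hR'n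
    obtain ⟨η, hη⟩ := h.exists_eta hR hRn hP (hRimg.symm ▸ hc)
    have hRS := hR.le_S
    haveI := finite_of_le hRS
    haveI := finite_mulAut R
    have hXp : IsPGroup p ((autInducedBy (preimageAlong θ T') R).subgroupOf (h.lift.autGroup R)) := by
      refine IsPGroup.comap_subtype ?_
      rw [← range_conjAutHom]
      exact (h.pgroup.to_le ((normalizerIn_le _ R).trans hTS)).of_surjective
        (conjAutHom _ R).rangeRestrict (MonoidHom.rangeRestrict_surjective _)
    obtain ⟨U, hU⟩ := hXp.exists_le_sylow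
    have hUeq : ((autInducedBy (preimageAlong θ T') R).subgroupOf (h.lift.autGroup R)) = U := by
      refine Subgroup.eq_of_le_of_card_ge hU ?_
      rw [Nat.card_congr (Subgroup.subgroupOfEquivOfLe (K := h.lift.autGroup R)
          (fun a ha => (h.mem_autGroup_lift hR).2 (h.induced_le_base hR.2.1 ha))).toEquiv,
        ← Subgroup.card_map_of_injective (h.lift.autGroup R).subtype_injective]
      refine h.card_le_normalized hR hRn ?_ (U.2.map _)
      rintro _ ⟨u, -, rfl⟩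
      exact (h.mem_autGroup_lift hR).1 u.2
    refine ⟨R, IsIso.isConj (f := η) ⟨h.isMap_lift.2 (hη.1.mono (le_normalizerIn hP.2.1)), hη.2.2⟩,
      ⟨hR.2.1, U, hUeq.symm⟩, isReceptive_of hR.2.1 fun P₁ f hf M hPM hM => ?_⟩
    -- receptivity
    have hfL := h.isMap_lift.1 hf.1
    have hfF := hLF hf
    obtain ⟨-, hP₁T, g, hg, hge⟩ := h.lmap_over hfL
    have hZP₁ : Z ≤ P₁ := fun z hz => by
      obtain ⟨x, hx, hxz⟩ := hfF.exists_preimage (hR.1 hz)
      obtain ⟨k, hk, hkl, -⟩ := hfF.exists_inv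
      have h1 := h.fix hk.1 (hR.1 hz) hz
      rw [← hxz, hkl x hx, hxz] at h1
      exact h1 ▸ hx
    have hP₁S := hfF.dom_le
    have hgi : IsIso N (imageAlong θ P₁) (imageAlong θ R) g := by
      refine ⟨hg, Set.ext fun y => ⟨?_, fun hy => ?_⟩⟩
      · rintro ⟨z, hz, rfl⟩
        obtain ⟨x, hx, rfl⟩ := (mem_imageAlong_push hP₁S).1 hz
        rw [hge x hx]
        exact push_mem_image hRS (hfF.mem hx)
      · obtain ⟨w, hw, rfl⟩ := (mem_imageAlong_push hRS).1 hy
        obtain ⟨x, hx, rfl⟩ := hfF.exists_preimage hw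
        exact ⟨_, push_mem_image hP₁S hx, hge x hx⟩
    have hMS : M ≤ S := hM.1.trans hTS
    have hMN : IsExtendable T' (imageAlong θ P₁) g (imageAlong θ M) := by
      refine ⟨h.img_le_t hM.1, fun y hy => ?_⟩
      obtain ⟨m, hm, rfl⟩ := (mem_imageAlong_push hMS).1 hy
      obtain ⟨hmN, s, hs, hse⟩ := hM.2 m hm
      refine ⟨((h.img_norm hP₁S hZP₁ h.t_le (hMS hm)).1 ⟨hM.1 hm, hmN⟩).2, push θ s,
        (mem_preimage_push.1 hs).2, fun z hz => ?_⟩
      obtain ⟨x, hx, rfl⟩ := (mem_imageAlong_push hP₁S).1 hz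
      have hx' := conj_mem_of_mem_normalizer hmN hx
      rw [← push_conj (hMS hm) (hP₁S hx), hge _ hx', hse x hx, hge x hx,
        push_conj (hTS hs) (hfF.1.apply_mem hx)]
    obtain ⟨n, hn, hne⟩ := receptive_extend (receptive_of_fullyNormalized h.t_p h.nData.eSat hRn) hgi hMN
    obtain ⟨g₁, hg₁, hg₁e⟩ := h.lift_map hn
    have hMD : M ≤ preimageAlong θ (imageAlong θ P₁ ⊔ imageAlong θ M) := fun x hx =>
      mem_preimage_push.2 ⟨hMS hx, Subgroup.mem_sup_right (push_mem_image hMS hx)⟩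
    have hg₁M := hg₁.mono hMD
    have hg₁F := (h.lmap_over hg₁M).1
    have hpush : ∀ x ∈ P₁, push θ (g₁ x) = push θ (f x) := fun x hx => by
      rw [hg₁e x (hMD (hPM hx)), hne (push_mem_image hP₁S hx), hge x hx]
    have hg₁R : IsIso F P₁ R g₁ := isIso_of_mapsTo (hg₁F.mono hPM) hRS
      (fun x hx => h.mem_of_push hRS hR.1 (hg₁F.apply_mem (hPM hx)) (by
        rw [hpush x hx]; exact push_mem_image hRS (hfF.mem hx))) hfF.card_eq.ge
    obtain ⟨Q, k₀, hQ, hk₀, hk₀l⟩ := h.lmap_inv (hg₁M.mono hPM)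
    obtain rfl := hQ.cod_unique hg₁R
    have hk₀m : ∀ y ∈ R, k₀ y ∈ P₁ := fun y hy => by
      obtain ⟨x, hx, rfl⟩ := hQ.exists_preimage hy
      rw [hk₀l x hx]; exact hx
    obtain ⟨β, hβ, hβe⟩ := h.known 0 R (f ∘ k₀) hR Nat.card_pos (.comp hk₀ hfL hk₀m)
      fun y hy => hfF.mem (hk₀m y hy)
    have hβk : β ∈ kerAut F Z R := by
      refine (h.mem_kerAut hRS (h.baseAut_le hR.2.1 hβ)).2 fun y hy => ?_
      obtain ⟨x, hx, rfl⟩ := hQ.exists_preimage hy
      rw [hβe (hQ.mem hx), Function.comp_apply, hk₀l x hx, hpush x hx]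
    have hβT : β ∈ autInducedBy (preimageAlong θ T') R := by
      haveI hn : ((kerAut F Z R).subgroupOf (h.lift.autGroup R)).Normal :=
        ⟨fun a ha b => h.kerAut_conj hRS ha (h.baseAut_le hR.2.1 ((h.mem_autGroup_lift hR).1 b.2))⟩
      have hp' : IsPGroup p ((kerAut F Z R).subgroupOf (h.lift.autGroup R)) :=
        (h.kerAut_isPGroup hRS).comap_of_injective _ (Subgroup.subtype_injective _)
      have h1 := hp'.le_sylow_of_normal U
        (show (⟨β, (h.mem_autGroup_lift hR).2 hβ⟩ : h.lift.autGroup R) ∈ _ from hβk)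
      rw [← hUeq] at h1
      exact h1
    obtain ⟨t, ht, htβ⟩ := mem_autInducedBy.1 hβT
    refine ⟨(fun x => t * x * t⁻¹) ∘ g₁, h.isMap_lift.2 (.comp hg₁M (h.lmap_conj le_rfl ht)
      fun x hx => (stronglyClosed_iff.1 h.closed).2 _ _ hg₁F x hx (hM.1 hx)), fun x hx => ?_⟩
    have h2 := hβe (hQ.mem hx)
    rw [Function.comp_apply, hk₀l x hx, autFun_of_mem β (hQ.mem hx), htβ ⟨_, hQ.mem hx⟩] at h2
    exact h2
  · refine le_of_isMap fun P f hf => ?_
    have hf' := h.isMap_lift.1 hf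
    induction hf' with
    | gen hM hα hle =>
      exact ((h.isMap_lift.2 (LMap.gen hM hα le_rfl)).of_subset (hE₁ _ hM)).mono hle
    | congr h1 he ih => exact (ih (h.isMap_lift.2 h1)).congr he
    | comp h1 h2 hmaps ih ih' => exact (ih (h.isMap_lift.2 h1)).comp (ih' (h.isMap_lift.2 h2)) hmaps
  · -- the exceptional centric subgroups
    have hPT := hP.1
    have hPS := hPT.trans hTS
    have hZP : Z ≤ P := fun z hz => hP.2 P (isConj_refl hPT) ⟨h.z_le_pre T' hz,
      Subgroup.mem_centralizer_iff.2 fun x hx => h.z_comm hz (hPS hx)⟩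
    have hnc : ¬ N.IsCentric (imageAlong θ P) := fun hc => hPH ⟨hZP, hPT, hc⟩
    obtain ⟨Q', hQ'c, hQ'⟩ : ∃ Q', N.IsConj (imageAlong θ P) Q' ∧ ¬ centralizerIn T' Q' ≤ Q' := by
      by_contra hne
      push_neg at hne
      exact hnc ⟨h.img_le_t hPT, hne⟩
    obtain ⟨c', hc', hc'Q⟩ := SetLike.not_le_iff_exists.1 hQ'
    obtain ⟨n, hn⟩ := isConj_iff.1 hQ'c
    have hQ'S : Q' ≤ S' := hn.cod_le.trans h.t_le
    set Q := preimageAlong θ Q' with hQd
    obtain ⟨f, hf, hfe⟩ := h.lift_map hn.1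
    rw [h.pre_img hPS hZP] at hf hfe
    have hfF := (h.lmap_over hf).1
    have hfi : IsIso F P Q f := isIso_of_mapsTo hfF (Fusion91.preimageAlong_le θ Q')
      (fun x hx => mem_preimage_push.2 ⟨hfF.apply_mem hx, by
        rw [hfe x hx]; exact hn.mem (push_mem_image hPS hx)⟩) (by
      rw [h.card_pre hQ'S, ← hn.card_eq, ← h.card_pre (h.img_le hPS), h.pre_img hPS hZP])
    have hPQ : h.lift.IsConj P Q := IsIso.isConj (f := f) ⟨h.isMap_lift.2 hf, hfi.2⟩
    have hQT : Q ≤ preimageAlong θ T' := pre_mono hn.cod_le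
    have hQS := hfi.cod_le
    obtain ⟨c, hcS, rfl⟩ := Fusion91.exists_push_eq h.surj.2.1 (h.t_le hc'.1)
    have hcN : c ∈ normalizerIn (preimageAlong θ T') Q := by
      refine (h.img_norm hQS (h.z_le_pre Q') h.t_le hcS).2 ?_
      rw [h.img_pre hQ'S]
      exact centralizerIn_le_normalizerIn _ _ hc'
    set α := conjAutHom (preimageAlong θ T') Q ⟨c, hcN⟩ with hα
    have hαI : α ∈ autInducedBy (preimageAlong θ T') Q := by
      rw [← range_conjAutHom]; exact ⟨_, rfl⟩
    have hαL : α ∈ h.lift.autGroup Q := autInducedBy_le_autGroup hQT hαI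
    have hαF : α ∈ F.autGroup Q := h.baseAut_le hQT (h.induced_le_base hQT hαI)
    have hαK : α ∈ kerAut F Z Q := (h.mem_kerAut hQS hαF).2 fun x hx => by
      rw [autFun_of_mem _ hx, hα, conjAutHom_apply, push_conj hcS (hQS hx),
        ← Subgroup.mem_centralizer_iff.1 hc'.2 _ (mem_preimage_push.1 hx).2]
      group
    refine ⟨Q, hPQ, fun hle => ?_⟩
    have hmem : α ∈ autInducedBy (preimageAlong θ T') Q ⊓
        (pCore p (h.lift.autGroup Q)).map (h.lift.autGroup Q).subtype := by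
      refine ⟨hαI, ⟨⟨α, hαL⟩, ?_, rfl⟩⟩
      have hn' : ((kerAut F Z Q).subgroupOf (h.lift.autGroup Q)).Normal := ⟨fun a ha b =>
        h.kerAut_conj hQS ha (autGroup_mono (h.lift_sub Q) b.2)⟩
      have hp' : IsPGroup p ((kerAut F Z Q).subgroupOf (h.lift.autGroup Q)) :=
        (h.kerAut_isPGroup hQS).comap_of_injective _ (Subgroup.subtype_injective _)
      have hk : (kerAut F Z Q).subgroupOf (h.lift.autGroup Q) ≤ pCore p (h.lift.autGroup Q) :=
        le_sSup ⟨hn', hp'⟩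
      exact hk (show (⟨α, hαL⟩ : h.lift.autGroup Q) ∈ _ from hαK)
    obtain ⟨q, hq⟩ := hle hmem
    have hcQ : (q : Ω)⁻¹ * c ∈ Q := hP.2 Q hPQ
      ⟨(preimageAlong θ T').mul_mem (inv_mem (hQT q.2)) hcN.1, Subgroup.mem_centralizer_iff.2 fun x hx => by
        have h1 := congrArg (fun β : MulAut Q => ((β ⟨x, hx⟩ : Q) : Ω)) hq
        simp only [hα, conjAutHom_apply] at h1
        have h2 : (q : Ω) * x * (q : Ω)⁻¹ = c * x * c⁻¹ := h1
        calc x * ((q : Ω)⁻¹ * c) = (q : Ω)⁻¹ * ((q : Ω) * x * (q : Ω)⁻¹) * c := by group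
          _ = (q : Ω)⁻¹ * (c * x * c⁻¹) * c := by rw [h2]
          _ = _ := by group⟩
    refine hc'Q (mem_preimage_push.1 (show c ∈ Q from ?_)).2
    rw [show c = (q : Ω) * ((q : Ω)⁻¹ * c) by group]
    exact Q.mul_mem q.2 hcQ

end Cfsg.Agent.Fusion.CentralLift
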