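import Cfsg.Agent.Lib.Fusion.CentralLift.Main
import Cfsg.Agent.Fus93.Iso

/-!
# The lift of a normal subsystem of a central quotient is normal
-/

set_option autoImplicit false
set_option linter.style.haveILetI false

namespace Cfsg.Agent.Fusion.CentralLift

open Cfsg Cfsg.Agent.Fusion
open Cfsg.FusionSystem (normalizerIn centralizerIn imageAlong preimageAlong)
open Cfsg.Agent.Fusion91 (push push_of_mem push_mul push_inv push_conj mem_preimage_push mem_imageAlong_push)
open Cfsg.Agent.Fusion.NormalLift (isIso_of_mapsTo exists_pow_coprime eq_top_of_sylow_coprime)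

variable {Ω : Type*} [Group Ω] {S : Subgroup Ω} {Ω' : Type*} [Group Ω'] {S' T' : Subgroup Ω'}
  {F : FusionSystem S} {E : FusionSystem S'} {N : FusionSystem T'} {θ : S →* Ω'}
  {Z : Subgroup Ω} {p : ℕ}

variable (h : Ctx F Z θ E N p)
include h
variable [Finite S] [Fact p.Prime]

theorem Ctx.lift_conj {k : Ω → Ω} (hk : IsIso F (preimageAlong θ T') (preimageAlong θ T') k)
    {P : Subgroup Ω} {f : Ω → Ω} (hf : LMap F θ Z N p P f) :
    ∃ g, LMap F θ Z N p ((hk.1.mono (h.lmap_over hf).2.1).exists_image.choose) g ∧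
      ∀ x ∈ P, g (k x) = k (f x) := by
  suffices H : ∀ P' : Subgroup Ω, IsIso F P P' k → ∃ g, LMap F θ Z N p P' g ∧ ∀ x ∈ P, g (k x) = k (f x) from
    H _ (hk.1.mono (h.lmap_over hf).2.1).exists_image.choose_spec
  induction hf with
  | @gen P Q α hM hα hQ =>
    intro P' hP'
    obtain ⟨Q', hQ'⟩ := (hk.1.mono hM.2.1).exists_image
    have hM' := h.mem_of_iso hQ' hM
    have hPQ : P' ≤ Q' := fun y hy => by
      obtain ⟨x, hx, rfl⟩ := hP'.exists_preimage hy
      exact hQ'.mem (hQ hx)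
    refine ⟨_, .gen hM' (h.baseAut_transport hQ' hM.2.1 hα) hPQ, fun x hx => ?_⟩
    rw [autFun_of_mem _ (hQ'.mem (hQ hx)), autFun_of_mem α (hQ hx)]
    exact congr_apply_equiv hQ' α ⟨x, hQ hx⟩
  | congr _ he ih =>
    intro P' hP'
    obtain ⟨g, hg, hge⟩ := ih P' hP'
    exact ⟨g, hg, fun x hx => by rw [hge x hx, he hx]⟩
  | @comp P Q f₁ f₂ h1 h2 hmaps ih ih' =>
    intro P' hP'
    obtain ⟨Q', hQ'⟩ := (hk.1.mono (h.lmap_over h2).2.1).exists_image
    obtain ⟨g₁, hg₁, he₁⟩ := ih P' hP'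
    obtain ⟨g₂, hg₂, he₂⟩ := ih' Q' hQ'
    refine ⟨g₂ ∘ g₁, .comp hg₁ hg₂ fun y hy => ?_, fun x hx => ?_⟩
    · obtain ⟨x, hx, rfl⟩ := hP'.exists_preimage hy
      rw [he₁ x hx]
      exact hQ'.mem (hmaps x hx)
    · simp only [Function.comp_apply]
      rw [he₁ x hx, he₂ _ (hmaps x hx)]

theorem Ctx.lift_isInvariant : h.lift.IsInvariantIn F := by
  haveI := h.finS'
  haveI := finite_of_le h.t_le
  set T := preimageAlong θ T' with hTdef
  have hTS : T ≤ S := Fusion91.preimageAlong_le θ T'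
  haveI := finite_of_le hTS
  have hinv : ∀ P f, IsMap h.lift P f → ∀ k, IsIso F T T k → ∀ P' : Subgroup Ω, (P' : Set Ω) = k '' P →
      ∃ g, IsMap h.lift P' g ∧ ∀ x ∈ P, g (k x) = k (f x) := by
    intro P f hf k hk P' hP'
    have hf' := h.isMap_lift.1 hf
    obtain ⟨g, hg, hge⟩ := h.lift_conj hk hf'
    obtain rfl : (hk.1.mono (h.lmap_over hf').2.1).exists_image.choose = P' := SetLike.coe_injective
      ((hk.1.mono (h.lmap_over hf').2.1).exists_image.choose_spec.2.symm.trans hP'.symm)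
    exact ⟨g, h.isMap_lift.2 hg, hge⟩
  refine Fus93.isInvariantIn_of h.lift_sub h.closed hinv ?_
  let Fr : Subgroup Ω → (Ω → Ω) → Prop := fun P f =>
    ∃ k g, IsIso F T T k ∧ IsMap h.lift P g ∧ ∀ x ∈ P, f x = k (g x)
  have hFrcomp : ∀ {P Q : Subgroup Ω} {f g : Ω → Ω}, Fr P f → Fr Q g → (∀ x ∈ P, f x ∈ Q) →
      Fr P (g ∘ f) := by
    rintro P Q f g ⟨k, f₀, hk, hf₀, hfe⟩ ⟨l, g₀, hl, hg₀, hge⟩ hfQ
    obtain ⟨ki, hki, hkil, hkir⟩ := hk.exists_inv
    obtain ⟨Q', hQ'⟩ := (hki.1.mono hg₀.dom_le).exists_image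
    obtain ⟨g₁, hg₁, hg₁e⟩ := hinv Q g₀ hg₀ ki hki Q' hQ'.2.symm
    have hval : ∀ x ∈ P, f₀ x = ki (f x) := fun x hx => by rw [hfe x hx, hkil _ (hf₀.apply_mem hx)]
    refine ⟨l ∘ k, g₁ ∘ f₀, hk.comp hl, hf₀.comp hg₁ (fun x hx => hval x hx ▸ hQ'.mem (hfQ x hx)),
      fun x hx => ?_⟩
    have h1 := hg₁e (f x) (hfQ x hx)
    simp only [Function.comp_apply]
    rw [hval x hx, h1, hkir _ (hg₀.apply_mem (hfQ x hx)), ← hge _ (hfQ x hx)]
  suffices key : ∀ n P f, IsMap F P f → P ≤ T → Nat.card T - Nat.card P = n → Fr P f from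
    fun P f hf hPT => key _ P f hf hPT rfl
  intro n
  induction n using Nat.strong_induction_on with
  | _ n ih =>
  intro P f hf hPT hn
  have hclosed : ∀ {P : Subgroup Ω} {f : Ω → Ω}, IsMap F P f → P ≤ T → ∀ x ∈ P, f x ∈ T :=
    fun hf hPT x hx => (stronglyClosed_iff.mp h.closed).2 _ _ hf x hx (hPT hx)
  rcases hPT.eq_or_lt with rfl | hlt
  · exact ⟨f, id, isIso_of_mapsTo hf hTS (hclosed hf le_rfl) le_rfl, h.isMap_lift.2 (h.lmap_id le_rfl),
      fun _ _ => rfl⟩
  have hbig : ∀ Q g, IsMap F Q g → Q ≤ T → Nat.card P < Nat.card Q → Fr Q g := fun Q g hg hQ hlt =>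
    ih _ (by have := Subgroup.card_le_of_le hQ; omega) Q g hg hQ rfl
  have hTp := h.pgroup.to_le hTS
  have hcard : ∀ {A : Subgroup Ω}, A < T → Nat.card A < Nat.card (normalizerIn T A) := by
    intro A hA
    haveI : Finite (normalizerIn T A) := finite_of_le ((normalizerIn_le T A).trans hTS)
    by_contra hle
    exact (lt_normalizerIn hTp hA).ne
      (Subgroup.eq_of_le_of_card_ge (lt_normalizerIn hTp hA).le (not_lt.mp hle))
  obtain ⟨I, hI⟩ := hf.exists_image
  have hIT : I ≤ T := fun y hy => by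
    obtain ⟨x, hx, rfl⟩ := hI.exists_preimage hy
    exact hclosed hf hPT x hx
  have hIlt : I < T := by
    refine lt_of_le_of_ne hIT fun he => hlt.ne (Subgroup.eq_of_le_of_card_ge hPT ?_)
    rw [hI.card_eq, he]
  -- sources not containing `Z`
  by_cases hZP : Z ≤ P
  swap
  · obtain ⟨f', hf', hfe, -⟩ := h.extend hf
    have hle : P ⊔ Z ≤ T := sup_le hPT (h.z_le_pre T')
    have hc : Nat.card P < Nat.card (P ⊔ Z : Subgroup Ω) := by
      haveI := finite_of_le (hle.trans hTS)
      by_contra hge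
      exact hZP (le_sup_right.trans (Subgroup.eq_of_le_of_card_ge le_sup_left (not_lt.1 hge)).ge)
    obtain ⟨k, g, hk, hg, he⟩ := hbig _ f' hf' hle hc
    exact ⟨k, g, hk, hg.mono le_sup_left, fun x hx => (hfe hx).symm.trans (he x (Subgroup.mem_sup_left hx))⟩
  obtain ⟨R, hR, hRn⟩ := exists_fullyNormalized (F := F) (hPT.trans hTS)
  have hRa := fullyAutomized_of_fullyNormalized h.pgroup h.sat hRn
  have hRr := receptive_of_fullyNormalized h.pgroup h.sat hRn
  obtain ⟨u, hu, huP, -⟩ := exists_normalizer_map h.pgroup hRa hRr hR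
  obtain ⟨v, hv, hvI, -⟩ := exists_normalizer_map h.pgroup hRa hRr (isConj_trans (isConj_symm hI.isConj) hR)
  have hRT : R ≤ T := fun y hy => by
    obtain ⟨x, hx, rfl⟩ := huP.exists_preimage hy
    exact hclosed huP.1 hPT x hx
  have hRlt : R < T := by
    refine lt_of_le_of_ne hRT fun he => hlt.ne (Subgroup.eq_of_le_of_card_ge hPT ?_)
    rw [isConj_card hR, he]
  have hsub : ∀ A : Subgroup Ω, normalizerIn T A ≤ normalizerIn S A := fun A => inf_le_inf_right _ hTS
  have hCu : Fr P u := by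
    obtain ⟨k, g, hk, hg, he⟩ := hbig _ u (hu.mono (hsub P)) (normalizerIn_le T P) (hcard hlt)
    exact ⟨k, g, hk, hg.mono (le_normalizerIn hPT), fun x hx => he x (le_normalizerIn hPT hx)⟩
  obtain ⟨J, hJ⟩ := (hv.mono (hsub I)).exists_image
  have hJT : J ≤ T := fun y hy => by
    obtain ⟨x, hx, rfl⟩ := hJ.exists_preimage hy
    exact hclosed hJ.1 (normalizerIn_le T I) x hx
  obtain ⟨vi, hvi, hvil, -⟩ := hJ.exists_inv
  have hRJ : R ≤ J := fun y hy => by
    obtain ⟨x, hx, rfl⟩ := hvI.exists_preimage hy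
    exact hJ.mem (le_normalizerIn hIT hx)
  have hCv : Fr R vi := by
    obtain ⟨k, g, hk, hg, he⟩ := hbig J vi hvi.1 hJT (by
      rw [← hJ.card_eq, hI.card_eq]; exact hcard hIlt)
    exact ⟨k, g, hk, hg.mono hRJ, fun x hx => he x (hRJ hx)⟩
  obtain ⟨ui, hui, huil, -⟩ := huP.exists_inv
  have hθ : IsIso F R R (v ∘ f ∘ ui) := (hui.comp hI).comp hvI
  have hZR : Z ≤ R := h.z_le_of_iso huP hZP
  have hRS := hRn.1
  haveI := finite_of_le hRS
  haveI := finite_mulAut R
  -- automorphisms of `R` extending to a larger subgroup of `T`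
  have hExt : ∀ (a : MulAut R) (M : Subgroup Ω), a ∈ F.autGroup R → R < M → M ≤ normalizerIn T R →
      (∀ g, ∀ hg : g ∈ M, ∀ hgN : g ∈ normalizerIn S R,
        a * conjAutHom S R ⟨g, hgN⟩ * a⁻¹ ∈ autInducedBy S R) → Fr R (autFun a) := by
    intro a M ha hRM hMN hconj
    have hiso := (mem_autGroup hRS).mp ha
    have hM : IsExtendable S R (autFun a) M := by
      refine ⟨hMN.trans ((normalizerIn_le T R).trans hTS), fun g hg => ⟨(hMN hg).2, ?_⟩⟩
      rw [← congr_autInducedBy_mem hiso (hsub R (hMN hg))]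
      rw [h.congr_aut hRS ha]
      exact hconj g hg _
    obtain ⟨f', hf', he⟩ := receptive_extend hRr hiso hM
    obtain ⟨k, g, hk, hg, hge⟩ := hbig M f' (hf'.mono le_sup_right) (hMN.trans (normalizerIn_le T R)) (by
      rw [isConj_card hR]
      haveI := finite_of_le ((hMN.trans (normalizerIn_le T R)).trans hTS)
      by_contra hle
      exact hRM.ne (Subgroup.eq_of_le_of_card_ge hRM.le (not_lt.1 hle)))
    exact ⟨k, g, hk, hg.mono hRM.le, fun x hx => (he hx).symm.trans (hge x (hRM.le hx))⟩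
  have hCθ : Fr R (v ∘ f ∘ ui) := by
    obtain ⟨γ, hγ, hγe⟩ := hθ.exists_aut
    suffices hγFr : Fr R (autFun γ) by
      obtain ⟨k, g, hk, hg, hge⟩ := hγFr
      exact ⟨k, g, hk, hg, fun x hx => by rw [← hge x hx]; exact (hγe hx).symm⟩
    by_cases hc : N.IsCentric (imageAlong θ R)
    · -- a member: Frattini argument
      have hM : Mem θ Z N R := ⟨hZR, hRT, hc⟩
      let A := F.autGroup R
      let B : Subgroup A := (baseAut F θ N p R).subgroupOf A
      haveI hB : B.Normal := ⟨fun β hβ α => h.baseAut_conj hRT hβ α.2⟩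
      obtain ⟨Y, hY⟩ := hRa.2
      obtain ⟨YB, hYB⟩ : ∃ YB : Sylow p B, (YB : Subgroup B) = (Y : Subgroup A).subgroupOf B :=
        Transfer.exists_sylow_subgroupOf_normal Y B
      have htop := Sylow.normalizer_sup_eq_top (N := B) YB
      obtain ⟨n', hn', b, hb, hnb⟩ :=
        Subgroup.mem_sup_of_normal_right.mp (htop.ge (Subgroup.mem_top ⟨γ, hγ⟩))
      have hbE : Fr R (autFun (b : MulAut R)) :=
        ⟨id, _, isIso_id hTS, h.isMap_lift.2 (.gen hM hb le_rfl), fun _ _ => rfl⟩
      have hnExt : Fr R (autFun (n' : MulAut R)) := by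
        refine hExt _ _ n'.2 (lt_normalizerIn hTp hRlt) le_rfl fun g hg hgN => ?_
        have hS' : conjAutHom S R ⟨g, hgN⟩ ∈ autInducedBy S R := by
          rw [← range_conjAutHom]; exact ⟨_, rfl⟩
        have hT' : conjAutHom S R ⟨g, hgN⟩ ∈ baseAut F θ N p R := h.induced_le_base hRT
          (mem_autInducedBy.2 ⟨g, hg.1, fun x => rfl⟩)
        let c : A := ⟨_, autInducedBy_le_autGroup hRS hS'⟩
        have hc : c ∈ (YB : Subgroup B).map B.subtype := by
          rw [hYB]
          exact ⟨⟨c, hT'⟩, by show c ∈ (Y : Subgroup A); rw [hY]; exact hS', rfl⟩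
        have h1 := (Subgroup.mem_normalizer_iff.mp hn' c).mp hc
        rw [hYB, Subgroup.subgroupOf_map_subtype] at h1
        have h2 := h1.1
        rw [hY] at h2
        exact h2
      obtain ⟨k, g, hk, hg, hge⟩ := hFrcomp hbE hnExt fun x hx => by
        rw [autFun_of_mem _ hx]; exact Subtype.mem _
      refine ⟨k, g, hk, hg, fun x hx => ?_⟩
      rw [← hge x hx, ← autFun_mul _ _ hx, ← Subgroup.coe_mul, hnb]
    · -- not centric: extend to the centralizer of the image
      set R' := imageAlong θ R with hR'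
      have hR'T : R' ≤ T' := h.img_le_t hRT
      have hnle : ¬ centralizerIn T' R' ≤ R' := fun hle =>
        hc (h.nData.centric_e (h.img_fullyNormalized hRn hZR) hR'T hle)
      set C := preimageAlong θ (centralizerIn T' R') with hCd
      have hCT : C ≤ T := pre_mono (centralizerIn_le _ _)
      have hCN : R ⊔ C ≤ normalizerIn T R := by
        refine sup_le (le_normalizerIn hRT) fun g hg => ?_
        exact (h.img_norm hRS hZR h.t_le (mem_preimage_push.1 hg).1).2
          (centralizerIn_le_normalizerIn _ _ (mem_preimage_push.1 hg).2)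
      have hRM : R < R ⊔ C := by
        obtain ⟨c', hc', hc'R⟩ := SetLike.not_le_iff_exists.1 hnle
        obtain ⟨c, hcS, rfl⟩ := Fusion91.exists_push_eq h.surj.2.1 (h.t_le hc'.1)
        refine lt_of_le_of_ne le_sup_left fun he => hc'R ?_
        have : c ∈ R := he.ge (Subgroup.mem_sup_right (mem_preimage_push.2 ⟨hcS, hc'⟩))
        exact push_mem_image hRS this
      refine hExt γ (R ⊔ C) hγ hRM hCN fun g hg hgN => ?_
      let U : Subgroup (normalizerIn S R) :=
        ((autInducedBy S R).comap (MulAut.conj γ).toMonoidHom).comap (conjAutHom S R)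
      have hle : R ⊔ C ≤ U.map (normalizerIn S R).subtype := by
        refine sup_le (fun r hr => ?_) fun c hc => ?_
        · refine ⟨⟨r, le_normalizerIn hRS hr⟩, ?_, rfl⟩
          show γ * conjAutHom S R ⟨r, _⟩ * γ⁻¹ ∈ autInducedBy S R
          refine mem_autInducedBy.2 ⟨γ ⟨r, hr⟩, hRS (Subtype.mem _), fun x => ?_⟩
          obtain ⟨w, rfl⟩ := γ.surjective x
          rw [MulAut.mul_apply, MulAut.mul_apply, show γ⁻¹ (γ w) = w from γ.symm_apply_apply w,
            ← Subgroup.coe_inv, ← Subgroup.coe_mul, ← Subgroup.coe_mul, ← map_inv, ← map_mul, ← map_mul]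
          congr 2
        · have hcS := (mem_preimage_push.1 hc).1
          have hcN : c ∈ normalizerIn S R := hsub R (hCN (Subgroup.mem_sup_right hc))
          refine ⟨⟨c, hcN⟩, ?_, rfl⟩
          show γ * conjAutHom S R ⟨c, hcN⟩ * γ⁻¹ ∈ autInducedBy S R
          have hcI : conjAutHom S R ⟨c, hcN⟩ ∈ autInducedBy S R := by
            rw [← range_conjAutHom]; exact ⟨_, rfl⟩
          refine h.kerAut_induced hRn (h.kerAut_conj hRS
            ((h.mem_kerAut hRS (autInducedBy_le_autGroup hRS hcI)).2 fun x hx => ?_) hγ)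
          rw [autFun_of_mem _ hx, conjAutHom_apply, push_conj hcS (hRS hx),
            ← Subgroup.mem_centralizer_iff.1 (mem_preimage_push.1 hc).2.2 _ (push_mem_image hRS hx)]
          group
      obtain ⟨w, hw, hwe⟩ := hle hg
      obtain rfl : w = ⟨g, hgN⟩ := Subtype.ext hwe
      exact hw
  have h1 : Fr P ((v ∘ f ∘ ui) ∘ u) := hFrcomp hCu hCθ fun x hx => huP.mem hx
  obtain ⟨k, g, hk, hg, hge⟩ := hFrcomp h1 hCv fun x hx => hθ.mem (huP.mem hx)
  refine ⟨k, g, hk, hg, fun x hx => ?_⟩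
  rw [← hge x hx]
  simp only [Function.comp_apply]
  rw [huil x hx, hvil _ (le_normalizerIn hIT (hI.mem hx))]

omit h in
/-- Strongly closed subgroups are fully normalized. -/
theorem fullyNormalized_of_closed {T : Subgroup Ω} (hT : F.StronglyClosed T) : F.IsFullyNormalized T := by
  refine ⟨hT.1, fun Q hQ => ?_⟩
  obtain ⟨f, hf⟩ := isConj_iff.1 hQ
  have hQT : Q ≤ T := fun y hy => by
    obtain ⟨x, hx, rfl⟩ := hf.exists_preimage hy
    exact (stronglyClosed_iff.1 hT).2 _ _ hf.1 x hx hx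
  haveI := finite_of_le hT.1
  rw [Subgroup.eq_of_le_of_card_ge hQT hf.card_eq.le]

theorem Ctx.lift_extension {α : MulAut (preimageAlong θ T')} (hα : α ∈ baseAut F θ N p (preimageAlong θ T')) :
    ∃ β ∈ F.autGroup (preimageAlong θ T' ⊔ centralizerIn S (preimageAlong θ T')),
      Set.EqOn (autFun β) (autFun α) (preimageAlong θ T') ∧
      ∀ c ∈ centralizerIn S (preimageAlong θ T'),
        c⁻¹ * autFun β c ∈ centralizerIn (preimageAlong θ T') (preimageAlong θ T') := by
  haveI := h.finS'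
  haveI := finite_of_le h.t_le
  have hTS : (preimageAlong θ T') ≤ S := Fusion91.preimageAlong_le θ T'
  haveI := finite_of_le hTS
  haveI := finite_mulAut (preimageAlong θ T')
  have hTn : F.IsFullyNormalized (preimageAlong θ T') := fullyNormalized_of_closed h.closed
  set D := (preimageAlong θ T') ⊔ centralizerIn S (preimageAlong θ T') with hD
  have hDS : D ≤ S := sup_le hTS (centralizerIn_le _ _)
  let Good : MulAut (preimageAlong θ T') → Prop := fun a => ∃ β ∈ F.autGroup D, Set.EqOn (autFun β) (autFun a) (preimageAlong θ T') ∧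
    ∀ c ∈ centralizerIn S (preimageAlong θ T'), c⁻¹ * autFun β c ∈ centralizerIn (preimageAlong θ T') (preimageAlong θ T')
  have hmul : ∀ a b : MulAut (preimageAlong θ T'), Good a → Good b → Good (a * b) := by
    rintro a b ⟨A, hA, hAe, hAc⟩ ⟨B, hB, hBe, hBc⟩
    have hAi := (mem_autGroup hDS).1 hA
    refine ⟨A * B, mul_mem hA hB, fun x hx => ?_, fun c hc => ?_⟩
    · rw [autFun_mul A B (Subgroup.mem_sup_left hx), autFun_mul a b hx, Function.comp_apply,
        Function.comp_apply, hBe hx]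
      exact hAe (by rw [autFun_of_mem b hx]; exact Subtype.mem _)
    · have hcD : c ∈ D := Subgroup.mem_sup_right hc
      have hz := hBc c hc
      have hzD : c⁻¹ * autFun B c ∈ D := Subgroup.mem_sup_left hz.1
      rw [autFun_mul A B hcD, Function.comp_apply,
        show autFun B c = c * (c⁻¹ * autFun B c) from (mul_inv_cancel_left _ _).symm,
        hAi.1.map_mul hcD hzD, ← mul_assoc]
      refine (centralizerIn (preimageAlong θ T') (preimageAlong θ T')).mul_mem (hAc c hc) ?_
      rw [hAe hz.1, autFun_of_mem a hz.1]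
      refine ⟨Subtype.mem _, Subgroup.mem_centralizer_iff.2 fun y hy => ?_⟩
      obtain ⟨w, hw⟩ := a.surjective ⟨y, hy⟩
      rw [show y = ((a w : (preimageAlong θ T')) : Ω) from (congrArg Subtype.val hw).symm, ← Subgroup.coe_mul, ← Subgroup.coe_mul,
        ← map_mul, ← map_mul]
      congr 2
      exact Subtype.ext (Subgroup.mem_centralizer_iff.1 hz.2 w w.2)
  -- `p`-elements are inner, the others lift
  have hInn : ∀ t ∈ (preimageAlong θ T'), ∀ a : MulAut (preimageAlong θ T'), (∀ x : (preimageAlong θ T'), (a x : Ω) = t * x * t⁻¹) → Good a := by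
    intro t ht a ha
    have htD : t ∈ normalizerIn S D := ⟨hTS ht, Subgroup.le_normalizer (Subgroup.mem_sup_left ht)⟩
    refine ⟨conjAutHom S D ⟨t, htD⟩, autInducedBy_le_autGroup hDS
      (by rw [← range_conjAutHom]; exact ⟨_, rfl⟩), fun x hx => ?_, fun c hc => ?_⟩
    · rw [autFun_of_mem _ (Subgroup.mem_sup_left hx : x ∈ D), autFun_of_mem a hx, ha ⟨x, hx⟩]
      rfl
    · rw [autFun_of_mem _ (Subgroup.mem_sup_right hc : c ∈ D)]
      show c⁻¹ * (t * c * t⁻¹) ∈ _
      rw [show t * c = c * t from Subgroup.mem_centralizer_iff.1 hc.2 t ht,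
        show c⁻¹ * (c * t * t⁻¹) = 1 by group]
      exact one_mem _
  have hcop : ∀ a ∈ baseAut F θ N p (preimageAlong θ T'), Nat.Coprime (orderOf a) p → Good a := by
    intro a ha ho
    obtain ⟨-, -, g, hg, hge⟩ := (h.mem_overAut le_rfl).1 (baseAut_le_over ha)
    rw [h.img_top] at hg
    have hgi : IsIso N T' T' g := isIso_of_mapsTo hg le_rfl (fun y hy => hg.apply_mem hy) le_rfl
    obtain ⟨n, hn, hne⟩ := hgi.exists_aut
    set D' := T' ⊔ centralizerIn S' T' with hD'
    obtain ⟨β', hβ', hβ'T, hβ'C⟩ := h.normal.2 n hn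
    have hD'S : D' ≤ S' := sup_le h.t_le (centralizerIn_le _ _)
    have hlift := (mem_autGroup hD'S).1 hβ'
    obtain ⟨b, hb, hbe⟩ := Fusion91.exists_lift_iso h.surj hlift
    set P' := preimageAlong θ D' with hP'
    have hP'S : P' ≤ S := Fusion91.preimageAlong_le θ D'
    haveI := finite_of_le hP'S
    haveI := finite_mulAut P'
    obtain ⟨B, hB, hBe⟩ := hb.exists_aut
    obtain ⟨m, hm, ham⟩ := exists_pow_coprime B a ho
    have hTP' : (preimageAlong θ T') ≤ P' := pre_mono le_sup_left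
    have hCP' : centralizerIn S (preimageAlong θ T') ≤ P' := fun c hc => mem_preimage_push.2 ⟨hc.1, Subgroup.mem_sup_right
      ⟨Fusion91.push_mem h.surj.2.1 hc.1, Subgroup.mem_centralizer_iff.2 fun y hy => by
        obtain ⟨x, hx, rfl⟩ := Fusion91.exists_push_eq h.surj.2.1 (h.t_le hy)
        rw [← push_mul hx hc.1, ← push_mul hc.1 hx,
          Subgroup.mem_centralizer_iff.1 hc.2 x (mem_preimage_push.2 ⟨hx, hy⟩)]⟩⟩
    have hC'P' : preimageAlong θ (centralizerIn S' T') ≤ P' := pre_mono le_sup_right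
    -- the first step
    have hstep : ∀ x ∈ P', push θ (autFun B x) = autFun β' (push θ x) := fun x hx => by
      rw [hBe hx]; exact hbe x hx
    have hBiso := (mem_autGroup hP'S).1 hB
    have hpow : ∀ j : ℕ, (∀ x ∈ (preimageAlong θ T'), autFun (B ^ j) x ∈ (preimageAlong θ T') ∧ push θ (autFun (B ^ j) x) = push θ (autFun (a ^ j) x)) ∧
        ∀ c ∈ preimageAlong θ (centralizerIn S' T'),
          (push θ c)⁻¹ * push θ (autFun (B ^ j) c) ∈ T' ⊓ Subgroup.centralizer (T' : Set Ω') := by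
      intro j
      induction j with
      | zero =>
        rw [pow_zero, pow_zero]
        refine ⟨fun x hx => ?_, fun c hc => ?_⟩
        · rw [autFun_one (hTP' hx), autFun_one hx, id]; exact ⟨hx, rfl⟩
        · rw [autFun_one (hC'P' hc), id, inv_mul_cancel]; exact one_mem _
      | succ j ihj =>
        have hj := (mem_autGroup hP'S).1 (pow_mem hB j)
        refine ⟨fun x hx => ?_, fun c hc => ?_⟩
        · obtain ⟨h1, h2⟩ := ihj.1 x hx
          have h1' : push θ (autFun (B ^ j) x) ∈ T' := (mem_preimage_push.1 h1).2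
          have hax : autFun (a ^ j) x ∈ (preimageAlong θ T') := by rw [autFun_of_mem _ hx]; exact Subtype.mem _
          have key : push θ (autFun (B ^ (j + 1)) x) = push θ (autFun (a ^ (j + 1)) x) := by
            rw [pow_succ', pow_succ', autFun_mul B _ (hTP' hx), autFun_mul a _ hx, Function.comp_apply,
              Function.comp_apply, hstep _ (hTP' h1), h2]
            have h3 : push θ (autFun (a ^ j) x) ∈ T' := (mem_preimage_push.1 hax).2
            rw [autFun_of_mem β' (Subgroup.mem_sup_left h3 : _ ∈ D')]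
            refine (hβ'T ⟨_, h3⟩).trans ?_
            rw [← autFun_coe n, hne h3, hge _ hax]
          refine ⟨mem_preimage_push.2 ⟨((mem_autGroup hP'S).1 (pow_mem hB (j + 1))).1.apply_mem (hTP' hx), ?_⟩,
            key⟩
          rw [key]
          refine (mem_preimage_push.1 (show autFun (a ^ (j + 1)) x ∈ (preimageAlong θ T') from ?_)).2
          rw [autFun_of_mem _ hx]; exact Subtype.mem _
        · have hz := ihj.2 c hc
          have hcD : push θ c ∈ centralizerIn S' T' := (mem_preimage_push.1 hc).2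
          have hm1 : autFun (B ^ j) c ∈ P' := hj.mem (hC'P' hc)
          rw [pow_succ', autFun_mul B _ (hC'P' hc), Function.comp_apply, hstep _ hm1,
            show push θ (autFun (B ^ j) c) = push θ c * ((push θ c)⁻¹ * push θ (autFun (B ^ j) c)) from
              (mul_inv_cancel_left _ _).symm,
            hlift.1.map_mul (Subgroup.mem_sup_right hcD) (Subgroup.mem_sup_left hz.1), ← mul_assoc]
          refine (T' ⊓ Subgroup.centralizer (T' : Set Ω')).mul_mem ?_ ?_
          · rw [autFun_of_mem β' (Subgroup.mem_sup_right hcD : _ ∈ D')]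
            exact hβ'C ⟨_, Subgroup.mem_sup_right hcD⟩ hcD
          · rw [autFun_of_mem β' (Subgroup.mem_sup_left hz.1 : _ ∈ D')]
            refine (congrArg (· ∈ T' ⊓ Subgroup.centralizer (T' : Set Ω')) (hβ'T ⟨_, hz.1⟩)).mpr ?_
            refine ⟨Subtype.mem _, Subgroup.mem_centralizer_iff.2 fun y hy => ?_⟩
            obtain ⟨w, hw⟩ := n.surjective ⟨y, hy⟩
            rw [show y = ((n w : T') : Ω') from (congrArg Subtype.val hw).symm, ← Subgroup.coe_mul,
              ← Subgroup.coe_mul, ← map_mul, ← map_mul]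
            congr 2
            exact Subtype.ext (Subgroup.mem_centralizer_iff.1 hz.2 w w.2)
    -- the power
    have hBm := (mem_autGroup hP'S).1 (pow_mem hB m)
    have hBT : IsIso F (preimageAlong θ T') (preimageAlong θ T') (autFun (B ^ m)) :=
      isIso_of_mapsTo (hBm.1.mono hTP') hTS (fun x hx => ((hpow m).1 x hx).1) le_rfl
    obtain ⟨δ, hδ, hδe⟩ := hBT.exists_aut
    have hδo : δ ∈ overAut F θ N (preimageAlong θ T') := by
      refine Subgroup.subset_closure ⟨((mem_autGroup hTS).1 hδ).1, le_rfl, g, by rw [h.img_top]; exact hg,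
        fun x hx => ?_⟩
      rw [hδe hx, ((hpow m).1 x hx).2, ham, hge x hx]
    have hδcop : Nat.Coprime (orderOf δ) p := by
      have hit : ∀ j : ℕ, Set.EqOn (autFun (δ ^ j)) (autFun ((B ^ m) ^ j)) (preimageAlong θ T') := by
        intro j
        induction j with
        | zero => intro x hx; rw [pow_zero, pow_zero, autFun_one hx, autFun_one (hTP' hx)]
        | succ j ihj =>
          intro x hx
          have hmj : autFun (δ ^ j) x ∈ (preimageAlong θ T') := by rw [autFun_of_mem _ hx]; exact Subtype.mem _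
          rw [pow_succ', pow_succ', autFun_mul _ _ hx, autFun_mul _ _ (hTP' hx), Function.comp_apply,
            Function.comp_apply, hδe hmj, ihj hx]
      refine hm.coprime_dvd_left (orderOf_dvd_of_pow_eq_one (MulEquiv.ext fun x => Subtype.ext ?_))
      have h1 := hit (orderOf (B ^ m)) x.2
      rw [autFun_coe, pow_orderOf_eq_one, autFun_one (hTP' x.2)] at h1
      exact h1
    have hδb : δ ∈ baseAut F θ N p (preimageAlong θ T') := Subgroup.subset_closure ⟨hδo, Or.inl hδcop⟩
    -- `δ⁻¹ a` is in the kernel, hence inner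
    have hdb : δ⁻¹ * a ∈ baseAut F θ N p (preimageAlong θ T') := mul_mem (inv_mem hδb) ha
    have hdF := h.baseAut_le le_rfl hdb
    have hker : δ⁻¹ * a ∈ kerAut F Z (preimageAlong θ T') := by
      refine (h.mem_kerAut hTS hdF).2 fun x hx => ?_
      obtain ⟨δg, -, hδge⟩ := h.exists_img_iso ((mem_autGroup hTS).1 (inv_mem hδ))
      have hax : autFun a x ∈ (preimageAlong θ T') := by rw [autFun_of_mem a hx]; exact Subtype.mem _
      have hdx : autFun δ x ∈ (preimageAlong θ T') := by rw [autFun_of_mem δ hx]; exact Subtype.mem _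
      have h1 : push θ (autFun a x) = push θ (autFun δ x) := by
        rw [hδe hx, ((hpow m).1 x hx).2, ham]
      rw [autFun_mul δ⁻¹ a hx, Function.comp_apply, ← hδge _ hax, h1, hδge _ hdx,
        ← Function.comp_apply (f := autFun δ⁻¹), ← autFun_mul δ⁻¹ δ hx, inv_mul_cancel, autFun_one hx, id]
    have hTM : Mem θ Z N (preimageAlong θ T') := h.mem_top
    obtain ⟨t, ht, hta⟩ := mem_autInducedBy.1
      (h.base_inter hTn hTM hdb (h.kerAut_induced hTn hker))
    have hGδ : Good δ := by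
      have hBD : IsIso F D D (autFun (B ^ m)) := by
        refine isIso_of_mapsTo (hBm.1.mono (sup_le hTP' hCP')) hDS ?_ le_rfl
        refine isMap_mem_sup hBm.1 hTP' hCP' (fun x hx => Subgroup.mem_sup_left ((hpow m).1 x hx).1)
          fun c hc => Subgroup.mem_sup_right ?_
        exact map_mem_centralizer hBm.1 hTP' hBT.2 (hCP' hc) hc.2
      obtain ⟨β, hβ, hβe⟩ := hBD.exists_aut
      refine ⟨β, hβ, fun x hx => by rw [hβe (Subgroup.mem_sup_left hx), hδe hx], fun c hc => ?_⟩
      rw [hβe (Subgroup.mem_sup_right hc)]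
      have hBc := map_mem_centralizer hBm.1 hTP' hBT.2 (hCP' hc) hc.2
      refine ⟨?_, (Subgroup.centralizer ((preimageAlong θ T') : Set Ω)).mul_mem (inv_mem hc.2) hBc.2⟩
      have hcC : c ∈ preimageAlong θ (centralizerIn S' T') := mem_preimage_push.2 ⟨hc.1, by
        refine ⟨Fusion91.push_mem h.surj.2.1 hc.1, Subgroup.mem_centralizer_iff.2 fun y hy => ?_⟩
        obtain ⟨x, hx, rfl⟩ := Fusion91.exists_push_eq h.surj.2.1 (h.t_le hy)
        rw [← push_mul hx hc.1, ← push_mul hc.1 hx,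
          Subgroup.mem_centralizer_iff.1 hc.2 x (mem_preimage_push.2 ⟨hx, hy⟩)]⟩
      refine mem_preimage_push.2 ⟨S.mul_mem (inv_mem hc.1) hBc.1, ?_⟩
      rw [push_mul (inv_mem hc.1) hBc.1, push_inv hc.1]
      exact ((hpow m).2 c hcC).1
    have := hmul δ (δ⁻¹ * a) hGδ (hInn t ht _ hta)
    rwa [mul_inv_cancel_left] at this
  -- decompose
  obtain ⟨k, n₀, hn₀, hkn⟩ :=
    Nat.exists_eq_pow_mul_and_not_dvd (orderOf_pos α).ne' p (Fact.out : p.Prime).ne_one
  have hpc := ((Fact.out : p.Prime).coprime_iff_not_dvd).2 hn₀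
  have hpp : IsPGroup p (autInducedBy (preimageAlong θ T') (preimageAlong θ T')) := by
    rw [← range_conjAutHom]
    exact (h.pgroup.to_le ((normalizerIn_le _ (preimageAlong θ T')).trans hTS)).of_surjective
      (conjAutHom _ (preimageAlong θ T')).rangeRestrict (MonoidHom.rangeRestrict_surjective _)
  have hgood : ∀ (i : ℤ), Good ((α ^ n₀) ^ i) := by
    intro i
    set w := (α ^ n₀) ^ i with hw
    have hwb : w ∈ baseAut F θ N p (preimageAlong θ T') := zpow_mem (pow_mem hα _) _
    have hord : ∃ j, orderOf w = p ^ j := by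
      have h1 : orderOf w ∣ p ^ k := orderOf_dvd_of_pow_eq_one (by
        rw [hw, ← zpow_natCast, ← zpow_mul, mul_comm, zpow_mul, zpow_natCast, ← pow_mul, mul_comm, ← hkn,
          pow_orderOf_eq_one, one_zpow])
      obtain ⟨j, -, hj⟩ := (Nat.dvd_prime_pow (Fact.out : p.Prime)).1 h1
      exact ⟨j, hj⟩
    obtain ⟨R, f, t, hf, ht, he⟩ := h.innerLike_of_pElement h.mem_top hwb hord
    obtain rfl : R = (preimageAlong θ T') := Subgroup.eq_of_le_of_card_ge (h.le_t_of_iso hf le_rfl) hf.card_eq.le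
    obtain ⟨t₀, ht₀, rfl⟩ := hf.exists_preimage ht
    refine hInn t₀ ht₀ w fun x => ?_
    have hm : t₀ * x * t₀⁻¹ ∈ (preimageAlong θ T') := (preimageAlong θ T').mul_mem ((preimageAlong θ T').mul_mem ht₀ x.2) ((preimageAlong θ T').inv_mem ht₀)
    refine hf.1.injOn (Subtype.mem _) hm ?_
    rw [hf.1.map_conj ht₀ x.2, ← he x x.2, autFun_coe]
  have hgood' : ∀ i : ℤ, Good ((α ^ p ^ k) ^ i) := by
    intro i
    refine hcop _ (zpow_mem (pow_mem hα _) _) ?_
    refine hpc.symm.coprime_dvd_left (orderOf_dvd_of_pow_eq_one ?_)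
    rw [← zpow_natCast, ← zpow_mul, mul_comm, zpow_mul, zpow_natCast, ← pow_mul, ← hkn,
      pow_orderOf_eq_one, one_zpow]
  have hb : α = (α ^ p ^ k) ^ Nat.gcdA (p ^ k) n₀ * (α ^ n₀) ^ Nat.gcdB (p ^ k) n₀ := by
    rw [← zpow_natCast α (p ^ k), ← zpow_natCast α n₀, ← zpow_mul, ← zpow_mul, ← zpow_add,
      ← Nat.gcd_eq_gcd_ab, (hpc.pow_left k).gcd_eq_one]
    simp
  rw [hb]
  exact hmul _ _ (hgood' _) (hgood _)

/-- A normal subsystem of a central quotient lifts to a normal subsystem. -/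
theorem Ctx.lift_isNormalIn : h.lift.IsNormalIn F p := by
  refine ⟨⟨h.lift_isSaturated, h.sat, h.lift_isInvariant⟩, fun α hα => ?_⟩
  obtain ⟨β, hβ, hβe, hβc⟩ := h.lift_extension ((h.mem_autGroup_lift h.mem_top).1 hα)
  refine ⟨β, hβ, fun x => ?_, fun c hc => ?_⟩
  · have := hβe x.2
    rw [autFun_coe, autFun_of_mem β (Subgroup.mem_sup_left x.2)] at this
    exact this
  · have := hβc c hc
    rw [autFun_coe] at this
    exact this

end Cfsg.Agent.Fusion.CentralLift
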