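import Cfsg.Agent.Lib.Fusion.CentralLift.Gen

/-!
# The automorphisms of the generated system are the lifted groups
-/

set_option autoImplicit false
set_option linter.style.haveILetI false

namespace Cfsg.Agent.Fusion.CentralLift

open Cfsg Cfsg.Agent.Fusion
open Cfsg.FusionSystem (normalizerIn centralizerIn imageAlong preimageAlong)
open Cfsg.Agent.Fusion91 (push push_of_mem push_mul push_inv push_conj mem_preimage_push mem_imageAlong_push)

variable {Ω : Type*} [Group Ω] {S : Subgroup Ω} {Ω' : Type*} [Group Ω'] {S' T' : Subgroup Ω'}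
  {F : FusionSystem S} {E : FusionSystem S'} {N : FusionSystem T'} {θ : S →* Ω'}
  {Z : Subgroup Ω} {p : ℕ}

/-- `η` moves `N_T(P)` by a generated map, carrying `P` onto `R`. -/
def Eta (F : FusionSystem S) (θ : S →* Ω') (Z : Subgroup Ω) (N : FusionSystem T') (p : ℕ)
    (R P : Subgroup Ω) (η : Ω → Ω) : Prop :=
  LMap F θ Z N p (normalizerIn (preimageAlong θ T') P) η ∧ IsIso F P R η

/-- All generated maps between subgroups of order bigger than `n` are known. -/
def Known (F : FusionSystem S) (θ : S →* Ω') (Z : Subgroup Ω) (N : FusionSystem T') (p : ℕ) (n : ℕ) :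
    Prop :=
  ∀ (W : Subgroup Ω) (c : Ω → Ω), Mem θ Z N W → n < Nat.card W → LMap F θ Z N p W c →
    (∀ x ∈ W, c x ∈ W) → ∃ α ∈ baseAut F θ N p W, Set.EqOn (autFun α) c W

variable (h : Ctx F Z θ E N p)
include h
variable [Finite S] [Fact p.Prime] {R : Subgroup Ω}

theorem Ctx.exists_eta (hR : Mem θ Z N R) (hRn : N.IsFullyNormalized (imageAlong θ R)) {P : Subgroup Ω}
    (hP : Mem θ Z N P) (hc : N.IsConj (imageAlong θ P) (imageAlong θ R)) :
    ∃ η, Eta F θ Z N p R P η := by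
  haveI := h.finS'
  haveI := finite_of_le h.t_le
  obtain ⟨n, hn, hnP, -⟩ := exists_normalizer_map h.t_p
    (fullyAutomized_of_fullyNormalized h.t_p h.nData.eSat hRn)
    (receptive_of_fullyNormalized h.t_p h.nData.eSat hRn) hc
  obtain ⟨η, hη, hηe⟩ := h.lift_map hn
  have hle : normalizerIn (preimageAlong θ T') P ≤ preimageAlong θ (normalizerIn T' (imageAlong θ P)) :=
    fun x hx => mem_preimage_push.2 ⟨(mem_preimage_push.1 hx.1).1,
      (h.img_norm hP.le_S hP.1 h.t_le (mem_preimage_push.1 hx.1).1).1 hx⟩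
  have hη' := hη.mono hle
  refine ⟨η, hη', ?_⟩
  have hm : IsMap F P η := (h.lmap_over hη').1.mono (le_normalizerIn hP.2.1)
  have hin : ∀ x ∈ P, η x ∈ R := fun x hx => h.mem_of_push hR.le_S hR.1 (hm.apply_mem hx) (by
    rw [hηe x (hle (le_normalizerIn hP.2.1 hx))]
    exact hnP.mem (push_mem_image hP.le_S hx))
  refine NormalLift.isIso_of_mapsTo hm hR.le_S hin ?_
  rw [← h.pre_img hP.le_S hP.1, ← h.pre_img hR.le_S hR.1, h.card_pre (h.img_le hP.le_S),
    h.card_pre (h.img_le hR.le_S)]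
  exact Nat.mul_le_mul_right _ (hnP.card_eq.ge)

/-- A generated map between overgroups of `R` normalizing `R` restricts to the lifted group. -/
theorem Ctx.key (hR : Mem θ Z N R) (hRn : N.IsFullyNormalized (imageAlong θ R))
    (hknown : Known F θ Z N p (Nat.card R)) {W : Subgroup Ω} {g : Ω → Ω} (hRW : R < W)
    (hWN : W ≤ normalizerIn (preimageAlong θ T') R) (hg : LMap F θ Z N p W g)
    (hgR : ∀ x ∈ R, g x ∈ R) :
    ∃ a ∈ baseAut F θ N p R, Set.EqOn g (autFun a) R := by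
  haveI := h.finS'
  haveI := finite_of_le h.t_le
  have hRS := hR.le_S
  set R' := imageAlong θ R with hR'
  obtain ⟨hgF, hWT, m, hm, hme⟩ := h.lmap_over hg
  have hWS := hgF.dom_le
  have hgi : IsIso F R R g := NormalLift.isIso_of_mapsTo (hgF.mono hRW.le) hRS hgR le_rfl
  set M := normalizerSystem N R' hR.2.2.1 with hMd
  have hMs : M.IsSaturated p := isNormalizerSystem_isSaturated h.t_p h.nData.eSat hRn _
    (isNormalizerSystem_normalizerSystem R' hR.2.2.1)
  have hMi : ∀ {D : Subgroup Ω'} {f : Ω' → Ω'}, IsMap M D f ↔ IsMap N D f ∧ D ≤ normalizerIn T' R' ∧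
      (∀ x ∈ D, f x ∈ normalizerIn T' R') ∧ ExtendsStab N R' D f :=
    fun {D f} => IsNormalizerSystem.isMap_iff (isNormalizerSystem_normalizerSystem R' hR.2.2.1)
  have hR'W : R' ≤ imageAlong θ W := imageAlong_mono hWS hRW.le
  have hW'N : imageAlong θ W ≤ normalizerIn T' R' := fun y hy => by
    obtain ⟨x, hx, rfl⟩ := (mem_imageAlong_push hWS).1 hy
    exact (h.img_norm hRS hR.1 h.t_le (hWS hx)).1 (hWN hx)
  have hmR : ∀ y ∈ R', m y ∈ R' := fun y hy => by
    obtain ⟨x, hx, rfl⟩ := (mem_imageAlong_push hRS).1 hy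
    rw [hme x (hRW.le hx)]
    exact push_mem_image hRS (hgR x hx)
  have hmimg : m '' (R' : Set Ω') = (R' : Set Ω') := Set.Subset.antisymm
    (fun y ⟨x, hx, hy⟩ => hy ▸ hmR x hx) fun y hy =>
      surjOn_of_card_le hR.2.2.1 (hm.injOn.mono hR'W) hmR le_rfl y hy
  have hmM : IsMap M (imageAlong θ W) m := by
    refine hMi.2 ⟨hm, hW'N, fun x hx => map_mem_normalizer hm hR'W hmimg hx (hW'N hx).2, m,
      by rw [sup_eq_left.2 hR'W]; exact hm, fun _ _ => rfl, hmimg⟩
  have hnormR : M.IsNormal R' := by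
    refine isNormal_iff.2 ⟨le_normalizerIn hR.2.2.1, fun D f hf => ?_⟩
    obtain ⟨-, hD, hfN, f', hf', he, him⟩ := hMi.1 hf
    refine ⟨f', hMi.2 ⟨hf', sup_le hD (le_normalizerIn hR.2.2.1),
      fun x hx => map_mem_normalizer hf' le_sup_right him hx
        ((sup_le hD (le_normalizerIn hR.2.2.1)) hx).2,
      f', hf'.mono (sup_le le_rfl le_sup_right), fun _ _ => rfl, him⟩, he, him⟩
  -- lifts normalizing `R`
  let C : Subgroup Ω' → (Ω' → Ω') → Prop := fun D f => ∃ g₀ a, LMap F θ Z N p (preimageAlong θ D ⊔ R) g₀ ∧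
    (∀ x ∈ preimageAlong θ D, push θ (g₀ x) = f (push θ x)) ∧ a ∈ baseAut F θ N p R ∧
    Set.EqOn g₀ (autFun a) R
  haveI := finite_of_le (normalizerIn_le T' R')
  have hC : C (imageAlong θ W) m := by
    refine alperin_induction_cr (h.t_p.to_le (normalizerIn_le _ _)) hMs C ?_ ?_ ?_ ?_ _ m hmM
    · rintro D f f' ⟨g₀, a, h1, h2, h3⟩ he
      exact ⟨g₀, a, h1, fun x hx => (h2 x hx).trans (he (mem_preimage_push.1 hx).2), h3⟩
    · rintro D D' f f' hf - ⟨g₀, a, h1, h2, ha, h4⟩ ⟨g₁, b, k1, k2, hb, k4⟩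
      have hg₀ := (h.lmap_over h1).1
      have e1 : ∀ x ∈ R, g₀ x ∈ R := fun x hx => by
        rw [h4 hx, autFun_of_mem a hx]; exact Subtype.mem _
      have e2 : ∀ x ∈ preimageAlong θ D, g₀ x ∈ preimageAlong θ D' := fun x hx =>
        mem_preimage_push.2 ⟨hg₀.apply_mem (Subgroup.mem_sup_left hx), by
          rw [h2 x hx]; exact hf.mem (mem_preimage_push.1 hx).2⟩
      refine ⟨g₁ ∘ g₀, b * a, .comp h1 k1 (isMap_mem_sup hg₀ le_sup_left le_sup_right
        (fun x hx => Subgroup.mem_sup_left (e2 x hx)) fun x hx => Subgroup.mem_sup_right (e1 x hx)),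
        fun x hx => ?_, mul_mem hb ha, fun x hx => ?_⟩
      · simp only [Function.comp_apply]
        rw [k2 _ (e2 x hx), h2 x hx]
      · rw [Function.comp_apply, k4 (e1 x hx), h4 hx, autFun_mul b a hx]
        rfl
    · rintro D D' f - hle ⟨g₀, a, h1, h2, h3⟩
      exact ⟨g₀, a, h1.mono (sup_le_sup_right (pre_mono hle) R), fun x hx => h2 x (pre_mono hle hx), h3⟩
    · intro E₀ hc hr hn f hf
      have hRE : R' ≤ E₀ := normal_le_centric_radical (h.t_p.to_le (normalizerIn_le _ _)) hnormR hc hr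
      obtain ⟨hfN, hE₀, -, f', hf', he, him⟩ := hMi.1 hf.1
      have hET : E₀ ≤ T' := hE₀.trans (normalizerIn_le _ _)
      have hfR : ∀ y ∈ R', f y ∈ R' := fun y hy => by
        rw [← he (hRE hy), ← SetLike.mem_coe, ← him]; exact ⟨y, hy, rfl⟩
      have hES := hET.trans h.t_le
      have hRpre : R ≤ preimageAlong θ E₀ := fun x hx =>
        mem_preimage_push.2 ⟨hRS hx, hRE (push_mem_image hRS hx)⟩
      have hM₀ : Mem θ Z N (preimageAlong θ E₀) := h.mem_mono hR hRpre (pre_mono hET)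
      have hiso : IsIso N (imageAlong θ (preimageAlong θ E₀)) (imageAlong θ (preimageAlong θ E₀)) f := by
        rw [h.img_pre hES]; exact ⟨hfN, hf.2⟩
      obtain ⟨β, hβ, hβe⟩ := h.lift_aut hM₀ hiso
      obtain ⟨a, ha, hae⟩ := h.base_restrict hM₀ hR hRpre hβ fun x hx =>
        h.mem_of_push hRS hR.1 (((mem_autGroup hM₀.le_S).1 (h.baseAut_le hM₀.2.1 hβ)).1.apply_mem (hRpre hx))
          (by rw [hβe x (hRpre hx)]; exact hfR _ (push_mem_image hRS hx))
      exact ⟨autFun β, a, .gen hM₀ hβ (sup_le le_rfl hRpre), hβe, ha, fun x hx => (hae hx).symm⟩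
  obtain ⟨g₀, a, hg₀, hg₀e, ha, hg₀a⟩ := hC
  have hWp : W ≤ preimageAlong θ (imageAlong θ W) := Fusion91.le_preimageAlong_imageAlong θ hWS
  have hg₀W : LMap F θ Z N p W g₀ := hg₀.mono (hWp.trans le_sup_left)
  obtain ⟨Q, k, hQ, hk, hkl⟩ := h.lmap_inv hg₀W
  have hZQ := h.z_le_of_iso hQ (hR.1.trans hRW.le)
  have hgQ : ∀ x ∈ W, g x ∈ Q := fun x hx => by
    refine h.mem_of_push hQ.cod_le hZQ (hgF.apply_mem hx) ?_
    rw [← hme x hx, ← hg₀e x (hWp hx)]
    exact push_mem_image hQ.cod_le (hQ.mem hx)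
  have hcW : ∀ x ∈ W, k (g x) ∈ W := fun x hx => by
    obtain ⟨w, hw, he⟩ := hQ.exists_preimage (hgQ x hx)
    rw [← he, hkl w hw]; exact hw
  have hlt : Nat.card R < Nat.card W := by
    haveI := finite_of_le hWS
    by_contra hle
    exact hRW.ne (Subgroup.eq_of_le_of_card_ge hRW.le (not_lt.1 hle))
  obtain ⟨γ, hγ, hγe⟩ := hknown W (k ∘ g) (h.mem_mono hR hRW.le hWT) hlt (.comp hg hk hgQ) hcW
  have hst : ∀ x ∈ R, autFun γ x ∈ R := fun x hx => by
    rw [hγe (hRW.le hx), Function.comp_apply]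
    obtain ⟨w, hw, he⟩ : ∃ w ∈ R, g₀ w = g x := by
      refine ⟨(a⁻¹ ⟨g x, hgR x hx⟩ : R), Subtype.mem _, ?_⟩
      rw [hg₀a (Subtype.mem _), autFun_coe, show a (a⁻¹ ⟨g x, hgR x hx⟩) = ⟨g x, hgR x hx⟩ from
        a.apply_symm_apply _]
    rw [← he, hkl w (hRW.le hw)]
    exact hw
  obtain ⟨b, hb, hbe⟩ := h.base_restrict (h.mem_mono hR hRW.le hWT) hR hRW.le hγ hst
  refine ⟨a * b, mul_mem ha hb, fun x hx => ?_⟩
  have h1 : g₀ (k (g x)) = g x := by
    obtain ⟨w, hw, he⟩ := hQ.exists_preimage (hgQ x (hRW.le hx))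
    rw [← he, hkl w hw]
  have h2 : k (g x) = autFun b x := by rw [hbe hx, hγe (hRW.le hx)]; rfl
  rw [autFun_mul a b hx, Function.comp_apply, ← h1, h2, hg₀a (by rw [autFun_of_mem b hx]; exact Subtype.mem _)]

theorem Ctx.eta_maps (hR : Mem θ Z N R) {P : Subgroup Ω} {η : Ω → Ω} (hP : Mem θ Z N P)
    (hη : Eta F θ Z N p R P η) :
    ∀ x ∈ normalizerIn (preimageAlong θ T') P, η x ∈ normalizerIn (preimageAlong θ T') R := by
  intro x hx
  have hm := (h.lmap_over hη.1).1
  exact ⟨(stronglyClosed_iff.1 h.closed).2 _ _ hm x hx hx.1,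
    (map_mem_normalizer hm (le_normalizerIn hP.2.1) hη.2.2 hx hx.2).2⟩

/-- Restriction of a composite through two transporters. -/
theorem Ctx.through (hR : Mem θ Z N R) (hRn : N.IsFullyNormalized (imageAlong θ R))
    (hknown : Known F θ Z N p (Nat.card R)) {P P' W₁ : Subgroup Ω} {η η' f : Ω → Ω}
    (hP : Mem θ Z N P) (hP' : Mem θ Z N P') (hη : Eta F θ Z N p R P η) (hη' : Eta F θ Z N p R P' η')
    (hPW : P < W₁) (hW : W₁ ≤ normalizerIn (preimageAlong θ T') P) (hf : LMap F θ Z N p W₁ f)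
    (hfP : IsIso F P P' f) :
    ∃ a ∈ baseAut F θ N p R, ∀ x ∈ P, η' (f x) = autFun a (η x) := by
  obtain ⟨V, k, hV, hk, hkl⟩ := h.lmap_inv (hη.1.mono hW)
  have hRV : R ≤ V := fun y hy => by
    obtain ⟨x, hx, rfl⟩ := hη.2.exists_preimage hy
    exact hV.mem (hPW.le hx)
  have hVN : V ≤ normalizerIn (preimageAlong θ T') R := fun y hy => by
    obtain ⟨x, hx, rfl⟩ := hV.exists_preimage hy
    exact h.eta_maps hR hP hη x (hW hx)
  have hRV' : R < V := by
    refine lt_of_le_of_ne hRV fun he => hPW.ne ?_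
    haveI := finite_of_le hV.dom_le
    refine Subgroup.eq_of_le_of_card_ge hPW.le ?_
    rw [hV.card_eq, ← he, hη.2.card_eq]
  have hkV : ∀ y ∈ V, k y ∈ W₁ := fun y hy => by
    obtain ⟨x, hx, rfl⟩ := hV.exists_preimage hy
    rw [hkl x hx]; exact hx
  have hfW : ∀ x ∈ W₁, f x ∈ normalizerIn (preimageAlong θ T') P' := fun x hx => by
    have hm := (h.lmap_over hf).1
    exact ⟨(stronglyClosed_iff.1 h.closed).2 _ _ hm x hx (hW hx).1,
      (map_mem_normalizer hm hPW.le hfP.2 hx (hW hx).2).2⟩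
  have hg : LMap F θ Z N p V (η' ∘ (f ∘ k)) :=
    .comp (.comp hk hf hkV) hη'.1 fun y hy => hfW _ (hkV y hy)
  have hgR : ∀ y ∈ R, (η' ∘ (f ∘ k)) y ∈ R := fun y hy => by
    obtain ⟨x, hx, rfl⟩ := hη.2.exists_preimage hy
    simp only [Function.comp_apply]
    rw [hkl x (hPW.le hx)]
    exact hη'.2.mem (hfP.mem hx)
  obtain ⟨a, ha, hae⟩ := h.key hR hRn hknown hRV' hVN hg hgR
  refine ⟨a, ha, fun x hx => ?_⟩
  have h1 := hae (hη.2.mem hx)
  simp only [Function.comp_apply] at h1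
  rwa [hkl x (hPW.le hx)] at h1

/-- Any two transporters of `P` differ by an element of the lifted group. -/
theorem Ctx.eta_unique (hR : Mem θ Z N R) (hRn : N.IsFullyNormalized (imageAlong θ R))
    (hknown : Known F θ Z N p (Nat.card R)) (hlt : R ≠ preimageAlong θ T') {P : Subgroup Ω}
    {η η' : Ω → Ω} (hP : Mem θ Z N P) (hη : Eta F θ Z N p R P η) (hη' : Eta F θ Z N p R P η') :
    ∃ a ∈ baseAut F θ N p R, ∀ x ∈ P, η' x = autFun a (η x) := by
  have hPT : P < preimageAlong θ T' := by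
    refine lt_of_le_of_ne hP.2.1 fun he => hlt ?_
    haveI := finite_of_le (Fusion91.preimageAlong_le θ T')
    refine Subgroup.eq_of_le_of_card_ge hR.2.1 ?_
    rw [← he, hη.2.card_eq]
  haveI := finite_of_le (Fusion91.preimageAlong_le θ T')
  have hN := lt_normalizerIn (h.pgroup.to_le (Fusion91.preimageAlong_le θ T')) hPT
  exact h.through hR hRn hknown hP hP hη hη' hN le_rfl (h.lmap_id (normalizerIn_le _ _))
    (isIso_id hP.le_S)

/-- Generated maps on members of the class of `R` are pure. -/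
theorem Ctx.pure (hR : Mem θ Z N R) (hRn : N.IsFullyNormalized (imageAlong θ R))
    (hknown : Known F θ Z N p (Nat.card R)) (hlt : R ≠ preimageAlong θ T') {Q : Subgroup Ω} {f : Ω → Ω}
    (hf : LMap F θ Z N p Q f) : ∀ P ≤ Q, Mem θ Z N P → ∀ η, Eta F θ Z N p R P η →
      ∀ P' η', IsIso F P P' f → Eta F θ Z N p R P' η' →
        ∃ a ∈ baseAut F θ N p R, ∀ x ∈ P, η' (f x) = autFun a (η x) := by
  induction hf with
  | @gen Q₀ Q α hM hα hQ =>
    intro P hle hP η hη P' η' hfP hη'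
    have hP' : Mem θ Z N P' := h.mem_of_iso hfP hP
    rcases (hle.trans hQ).eq_or_lt with rfl | hPQ
    · -- an automorphism of `P`
      obtain rfl : P = P' := SetLike.coe_injective ((autFun_image α).symm.trans hfP.2)
      obtain ⟨c, hc, hce⟩ := h.eta_unique hR hRn hknown hlt hP hη hη'
      have hb := h.baseAut_transport (p := p) hη.2 hP.2.1 hα
      refine ⟨c * MulAut.congr hη.2.equiv α, mul_mem hc hb, fun x hx => ?_⟩
      have hαx : autFun α x ∈ P := by rw [autFun_of_mem α hx]; exact Subtype.mem _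
      rw [hce _ hαx, autFun_mul c _ (hη.2.mem hx), Function.comp_apply]
      congr 1
      rw [autFun_of_mem _ (hη.2.mem hx), autFun_of_mem α hx]
      exact (congr_apply_equiv hη.2 α ⟨x, hx⟩).symm
    · haveI := finite_of_le hM.le_S
      have hlt' := lt_normalizerIn (h.pgroup.to_le hM.le_S) hPQ
      exact h.through hR hRn hknown hP hP' hη hη' hlt' (inf_le_inf_right _ hM.2.1)
        (.gen hM hα (normalizerIn_le Q P)) hfP
  | congr _ he ih =>
    intro P hle hP η hη P' η' hfP hη'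
    obtain ⟨a, ha, hae⟩ := ih P hle hP η hη P' η' (hfP.congr (fun x hx => (he (hle hx)).symm)) hη'
    exact ⟨a, ha, fun x hx => by rw [← he (hle hx)]; exact hae x hx⟩
  | @comp Q Q₁ f g h1 h2 hmaps ih ih' =>
    intro P hle hP η hη P' η' hfP hη'
    obtain ⟨P₁, hP₁⟩ := ((h.lmap_over h1).1.mono hle).exists_image
    have hP₁Q : P₁ ≤ Q₁ := fun y hy => by
      obtain ⟨x, hx, rfl⟩ := hP₁.exists_preimage hy
      exact hmaps x (hle hx)
    have hP₁M := h.mem_of_iso hP₁ hP
    have hg : IsIso F P₁ P' g := ⟨(h.lmap_over h2).1.mono hP₁Q, by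
      rw [← hP₁.2, ← Set.image_comp]; exact hfP.2⟩
    -- the class of `R`
    have hc₁ : N.IsConj (imageAlong θ P₁) (imageAlong θ R) := by
      haveI := h.finS'
      haveI := finite_of_le h.t_le
      have conjOf : ∀ {A B W : Subgroup Ω} {u : Ω → Ω}, LMap F θ Z N p W u → A ≤ W →
          IsIso F A B u → N.IsConj (imageAlong θ A) (imageAlong θ B) := by
        intro A B W u hu hAW hAB
        obtain ⟨-, -, v, hv, hve⟩ := (h.lmap_over hu).mono hAW
        refine IsIso.isConj (f := v) ⟨hv, Set.ext fun y => ⟨?_, fun hy => ?_⟩⟩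
        · rintro ⟨z, hz, rfl⟩
          obtain ⟨x, hx, rfl⟩ := (mem_imageAlong_push hAB.dom_le).1 hz
          rw [hve x hx]
          exact push_mem_image hAB.cod_le (hAB.mem hx)
        · obtain ⟨w, hw, rfl⟩ := (mem_imageAlong_push hAB.cod_le).1 hy
          obtain ⟨x, hx, rfl⟩ := hAB.exists_preimage hw
          exact ⟨_, push_mem_image hAB.dom_le hx, hve x hx⟩
      exact isConj_trans (isConj_symm (conjOf h1 hle hP₁)) (conjOf hη.1 (le_normalizerIn hP.2.1) hη.2)
    obtain ⟨η₁, hη₁⟩ := h.exists_eta hR hRn hP₁M hc₁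
    obtain ⟨a, ha, hae⟩ := ih P hle hP η hη P₁ η₁ hP₁ hη₁
    obtain ⟨b, hb, hbe⟩ := ih' P₁ hP₁Q hP₁M η₁ hη₁ P' η' hg hη'
    refine ⟨b * a, mul_mem hb ha, fun x hx => ?_⟩
    rw [Function.comp_apply, hbe _ (hP₁.mem hx), hae x hx, autFun_mul b a (hη.2.mem hx)]
    rfl

/-- The automorphisms of the generated system at a member are the lifted group. -/
theorem Ctx.known (n : ℕ) : Known F θ Z N p n := by
  suffices H : ∀ d, ∀ (W : Subgroup Ω) (c : Ω → Ω), Nat.card (preimageAlong θ T') - Nat.card W = d →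
      Mem θ Z N W → LMap F θ Z N p W c → (∀ x ∈ W, c x ∈ W) →
        ∃ α ∈ baseAut F θ N p W, Set.EqOn (autFun α) c W from
    fun W c hW _ hc hcW => H _ W c rfl hW hc hcW
  intro d
  induction d using Nat.strong_induction_on with
  | _ d ih =>
  intro W c hd hW hc hcW
  haveI := h.finS'
  haveI := finite_of_le h.t_le
  haveI := finite_of_le (Fusion91.preimageAlong_le θ T')
  have hci : IsIso F W W c := NormalLift.isIso_of_mapsTo (h.lmap_over hc).1 hW.le_S hcW le_rfl
  by_cases htop : W = preimageAlong θ T'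
  · subst htop
    have gen : ∀ {Q : Subgroup Ω} {f : Ω → Ω}, LMap F θ Z N p Q f → Q = preimageAlong θ T' →
        ∃ α ∈ baseAut F θ N p (preimageAlong θ T'), Set.EqOn (autFun α) f (preimageAlong θ T') := by
      intro Q f hf
      induction hf with
      | @gen Q₀ Q α hM hα hQ =>
        intro he
        obtain rfl : Q = preimageAlong θ T' := le_antisymm hM.2.1 (he ▸ hQ)
        exact ⟨α, hα, fun _ _ => rfl⟩
      | congr _ he' ih' =>
        intro he
        obtain ⟨α, hα, hαe⟩ := ih' he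
        exact ⟨α, hα, hαe.trans (he ▸ he')⟩
      | @comp Q Q₁ f g h1 h2 hmaps ih₁ ih₂ =>
        intro he
        obtain ⟨α, hα, hαe⟩ := ih₁ he
        have hQ₁ : Q₁ = preimageAlong θ T' := by
          refine le_antisymm (h.lmap_over h2).2.1 fun y hy => ?_
          have h3 : autFun α '' (preimageAlong θ T' : Set Ω) = _ := autFun_image α
          rw [← SetLike.mem_coe, ← h3] at hy
          obtain ⟨x, hx, rfl⟩ := hy
          rw [hαe hx]
          exact hmaps x (he.symm ▸ hx)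
        obtain ⟨β, hβ, hβe⟩ := ih₂ hQ₁
        refine ⟨β * α, mul_mem hβ hα, fun x hx => ?_⟩
        rw [autFun_mul β α hx, Function.comp_apply, Function.comp_apply, hαe hx, hβe]
        rw [← hαe hx, autFun_of_mem α hx]
        exact Subtype.mem _
    exact gen hc rfl
  obtain ⟨R', hcR', hR'n⟩ := exists_fullyNormalized (F := N) (h.img_le_t hW.2.1)
  set R := preimageAlong θ R' with hRd
  have hR'S : R' ≤ S' := hR'n.1.trans h.t_le
  have hRimg : imageAlong θ R = R' := h.img_pre hR'S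
  obtain ⟨v, hv⟩ := isConj_iff.1 hcR'
  have hR : Mem θ Z N R := ⟨h.z_le_pre R', pre_mono hR'n.1, by
    rw [hRimg]
    exact h.centric_transport ⟨hv.1.of_isSubsystemOf h.nData.sub, hv.2⟩ hW.2.2⟩
  obtain ⟨η, hη⟩ := h.exists_eta hR (hRimg.symm ▸ hR'n) hW (hRimg.symm ▸ hcR')
  have hcard : Nat.card R = Nat.card W := hη.2.card_eq.symm
  have hWT : Nat.card W < Nat.card (preimageAlong θ T') := by
    by_contra hle
    exact htop (Subgroup.eq_of_le_of_card_ge hW.2.1 (not_lt.1 hle))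
  have hknown : Known F θ Z N p (Nat.card R) := fun V e hV hlt he heV =>
    ih _ (by omega) V e rfl hV he heV
  have hne : R ≠ preimageAlong θ T' := fun he => by rw [he] at hcard; omega
  obtain ⟨a, ha, hae⟩ := h.pure hR (hRimg.symm ▸ hR'n) hknown hne hc W le_rfl hW η hη W η hci hη
  obtain ⟨k, hk, hkl, -⟩ := hη.2.exists_inv
  refine ⟨MulAut.congr hk.equiv a, h.baseAut_transport hk hR.2.1 ha, fun x hx => ?_⟩
  have hk1 : (hk.equiv ⟨η x, hη.2.mem hx⟩ : Ω) = x := by rw [hk.equiv_apply, hkl x hx]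
  rw [autFun_of_mem _ hx, show (⟨x, hx⟩ : W) = hk.equiv ⟨η x, hη.2.mem hx⟩ from Subtype.ext hk1.symm,
    congr_apply_equiv, ← autFun_coe a ⟨η x, hη.2.mem hx⟩, ← hae x hx, hkl _ (hcW x hx)]

end Cfsg.Agent.Fusion.CentralLift
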